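import Cfsg.Agent.Helper28.C1690.Rows0
import Cfsg.Agent.Helper28.C1690.Rows1
import Cfsg.Agent.Helper28.C1690.Rows2
import Cfsg.Agent.Helper28.C1690.Rows3
import Cfsg.Agent.Helper28.C1690.Rows4
import Cfsg.Agent.Helper28.C1690.Rows5
import Cfsg.Agent.Helper28.C1690.Rows6
import Cfsg.Agent.Helper28.C1690.Rows7
import Cfsg.Agent.Helper28.C1690.Rows8
import Cfsg.Agent.Helper28.C1690.Rows9
import Cfsg.Agent.Helper28.C1690.Rows10
import Cfsg.Agent.Helper28.C1690.Rows11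
import Cfsg.Agent.Helper28.C1690.Rows12
import Cfsg.Agent.Helper28.C1690.Rows13
import Cfsg.Agent.Helper28.C1690.Rows14
import Cfsg.Agent.Helper28.C1690.Rows15
import Cfsg.Agent.Helper28.C1690.Rows16
import Cfsg.Agent.Helper28.C1690.Rows17
import Cfsg.Agent.Helper28.C1690.Rows18
import Cfsg.Agent.Helper28.C1690.Rows19
import Cfsg.Agent.Helper28.C1690.Rows20
import Cfsg.Agent.Helper28.C1690.Rows21
import Cfsg.Agent.Helper28.C1690.Rows22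
import Cfsg.Agent.Helper28.C1690.Rows23
import Cfsg.Agent.Helper28.C1690.Rows24
import Cfsg.Agent.Helper28.C1690.Rows25
import Cfsg.Agent.Helper28.C1690.Rows26
import Cfsg.Agent.Helper28.C1690.Rows27
import Cfsg.Agent.Helper28.C1690.Rows28
import Cfsg.Agent.Helper28.C1690.Rows29
import Cfsg.Agent.Helper28.C1690.Rows30
import Cfsg.Agent.Helper28.C1690.Rows31
import Cfsg.Agent.Helper28.C1690.Rows32
import Cfsg.Agent.Helper28.C1690.Rows33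
import Cfsg.Agent.Helper28.C1690.Rows34
import Cfsg.Agent.Helper28.C1690.Rows35
import Cfsg.Agent.Helper28.C1690.Rows36
import Cfsg.Agent.Helper28.C1690.Rows37
import Cfsg.Agent.Helper28.C1690.Rows38
import Cfsg.Agent.Helper28.C1690.Rows39
import Cfsg.Agent.Helper28.C1690.Rows40
import Cfsg.Agent.Helper28.C1690.Rows41
import Cfsg.Agent.Helper28.C1690.Rows42
import Cfsg.Agent.Helper28.C1690.Rows43
import Cfsg.Agent.Helper28.C1690.Rows44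
import Cfsg.Agent.Helper28.C1690.Rows45
import Cfsg.Agent.Helper28.C1690.Rows46
import Cfsg.Agent.Helper28.C1690.Rows47
import Cfsg.Agent.Helper28.C1690.Rows48
import Cfsg.Agent.Helper28.C1690.Rows49
import Cfsg.Agent.Helper28.C1690.Rows50
import Cfsg.Agent.Helper28.C1690.Rows51
import Cfsg.Agent.Helper28.C1690.Rows52
import Cfsg.Agent.Helper28.C1690.Rows53
import Cfsg.Agent.Helper28.C1690.Rows54
import Cfsg.Agent.Helper28.C1690.Rows55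
import Cfsg.Agent.Helper28.C1690.Rows56
import Cfsg.Agent.Helper28.C1690.Rows57
import Cfsg.Agent.Helper28.C1690.Rows58
import Cfsg.Agent.Helper28.C1690.Rows59
import Cfsg.Agent.Helper28.C1690.Rows60
import Cfsg.Agent.Helper28.C1690.Rows61
import Cfsg.Agent.Helper28.C1690.Rows62
import Cfsg.Agent.Helper28.C1690.Rows63
import Cfsg.Agent.Helper28.C1690.Rows64
import Cfsg.Agent.Helper28.C1690.Rows65
import Cfsg.Agent.Helper28.C1690.Rows66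
import Cfsg.Agent.Helper28.C1690.Rows67
import Cfsg.Agent.Helper28.C1690.Rows68
import Cfsg.Agent.Helper28.C1690.Rows69
import Cfsg.Agent.Helper28.C1690.Rows70
import Cfsg.Agent.Helper28.C1690.Rows71
import Cfsg.Agent.Helper28.C1690.Rows72
import Cfsg.Agent.Helper28.C1690.Rows73
import Cfsg.Agent.Helper28.C1690.Rows74
import Cfsg.Agent.Helper28.C1690.Rows75
import Cfsg.Agent.Helper28.C1690.Rows76
import Cfsg.Agent.Helper28.C1690.Rows77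
import Cfsg.Agent.Helper28.C1690.Rows78
import Cfsg.Agent.Helper28.C1690.Rows79
import Cfsg.Agent.Helper28.C1690.Rows80
import Cfsg.Agent.Helper28.C1690.Rows81
import Cfsg.Agent.Helper28.C1690.Rows82
import Cfsg.Agent.Helper28.C1690.Rows83
import Cfsg.Agent.Helper28.C1690.Rows84
import Cfsg.Agent.Helper28.C1690.Rows85
import Cfsg.Agent.Helper28.C1690.Rows86
import Cfsg.Agent.Helper28.C1690.Fin0
import Cfsg.Agent.Helper28.C1690.Fin1
import Cfsg.Agent.Helper28.C1690.Fin2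
import Cfsg.Agent.Helper28.C1690.Fin3
import Cfsg.Agent.Helper28.C1690.Fin4
import Cfsg.Agent.Helper28.C1690.Fin5
import Cfsg.Agent.Helper28.C1690.Fin6
import Cfsg.Agent.Helper28.C1690.Fin7
import Cfsg.Agent.Helper28.C1690.Fin8
import Cfsg.Agent.Helper28.C1690.Fin9
import Cfsg.Agent.Helper28.C1690.Fin10
import Cfsg.Agent.Helper28.C1690.Fin11
import Cfsg.Agent.Helper28.C1690.Fin12
import Cfsg.Agent.Helper28.C1690.Fin13
import Cfsg.Agent.Helper28.C1690.Fin14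
import Cfsg.Agent.Helper28.C1690.Fin15
import Cfsg.Agent.Helper28.C1690.Fin16
import Cfsg.Agent.Helper28.C1690.Fin17
import Cfsg.Agent.Helper28.C1690.Fin18
import Cfsg.Agent.Helper28.C1690.Fin19
import Cfsg.Agent.Helper28.C1690.Fin20
import Cfsg.Agent.Helper28.C1690.Fin21
import Cfsg.Agent.Helper28.C1690.Fin22
import Cfsg.Agent.Helper28.C1690.Fin23
import Cfsg.Agent.Helper28.C1690.Fin24
import Cfsg.Agent.Helper28.C1690.Fin25
import Cfsg.Agent.Helper28.C1690.Fin26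
import Cfsg.Agent.Helper28.C1690.Fin27
import Cfsg.Agent.Helper28.C1690.Fin28
import Cfsg.Agent.Helper28.C1690.Fin29
import Cfsg.Agent.Helper28.C1690.Fin30
import Cfsg.Agent.Helper28.C1690.Fin31
import Cfsg.Agent.Helper28.C1690.Fin32
import Cfsg.Agent.Helper28.C1690.Fin33
import Cfsg.Agent.Helper28.C1690.Fin34
import Cfsg.Agent.Helper28.C1690.Fin35
import Cfsg.Agent.Helper28.C1690.Fin36
import Cfsg.Agent.Helper28.C1690.Fin37
import Cfsg.Agent.Helper28.C1690.Rel0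
import Cfsg.Agent.Helper28.C1690.Rel1
import Cfsg.Agent.Helper28.C1690.Rel2
import Cfsg.Agent.Helper28.C1690.Rel3
import Cfsg.Agent.Helper28.C1690.Rel4
import Cfsg.Agent.Helper28.C1690.Rel5
import Cfsg.Agent.Helper28.C1690.Rel6
import Cfsg.Agent.Helper28.C1690.Rel7
import Cfsg.Agent.Helper28.C1690.Rel8
import Cfsg.Agent.Helper28.C1690.Rel9
import Cfsg.Agent.Helper28.C1690.Rel10
import Cfsg.Agent.Helper28.C1690.Rel11
import Cfsg.Agent.Helper28.C1690.Rel12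
import Cfsg.Agent.Helper28.C1690.Rel13
import Cfsg.Agent.Helper28.C1690.Rel14
import Cfsg.Agent.Helper28.C1690.Rel15
import Cfsg.Agent.Helper28.C1690.Rel16
import Cfsg.Agent.Helper28.C1690.Rel17
import Cfsg.Agent.Helper28.C1690.Rel18
import Cfsg.Agent.Helper28.C1690.Rel19
import Cfsg.Agent.Helper28.C1690.Rel20
import Cfsg.Agent.Helper28.C1690.Rel21
import Cfsg.Agent.Helper28.C1690.Rel22
import Cfsg.Agent.Helper28.C1690.Rel23
import Cfsg.Agent.Helper28.C1690.Rel24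
import Cfsg.Agent.Helper28.C1690.Rel25
import Cfsg.Agent.Helper28.C1690.Rel26
import Cfsg.Agent.Helper28.C1690.Rel27
import Cfsg.Agent.Helper28.C1690.Rel28
import Cfsg.Agent.Helper28.C1690.Rel29
import Cfsg.Agent.Helper28.C1690.Rel30
import Cfsg.Agent.Helper28.C1690.Rel31
import Cfsg.Agent.Helper28.C1690.Rel32
import Cfsg.Agent.Helper28.C1690.Rel33
import Cfsg.Agent.Helper28.C1690.Rel34
import Cfsg.Agent.Helper28.C1690.Rel35
import Cfsg.Agent.Helper28.C1690.Rel36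
import Cfsg.Agent.Helper28.C1690.Rel37
import Cfsg.Agent.Helper28.C1690.Rel38
import Cfsg.Agent.Helper28.C1690.Rel39
import Cfsg.Agent.Helper28.C1690.Rel40
import Cfsg.Agent.Helper28.C1690.Rel41
import Cfsg.Agent.Helper28.C1690.Rel42
import Cfsg.Agent.Helper28.C1690.Rel43
import Cfsg.Agent.Helper28.C1690.Rel44
import Cfsg.Agent.Helper28.C1690.Rel45
import Cfsg.Agent.Helper28.C1690.Rel46
import Cfsg.Agent.Helper28.C1690.Rel47
import Cfsg.Agent.Helper28.C1690.Rel48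
import Cfsg.Agent.Helper28.C1690.Rel49
import Cfsg.Agent.Helper28.C1690.Rel50
import Cfsg.Agent.Helper28.C1690.Rel51
import Cfsg.Agent.Helper28.C1690.Rel52
import Cfsg.Agent.Helper28.C1690.Rel53
import Cfsg.Agent.Helper28.C1690.Rel54
import Cfsg.Agent.Helper28.C1690.Rel55
import Cfsg.Agent.Helper28.C1690.Rel56
import Cfsg.Agent.Helper28.C1690.Rel57
import Cfsg.Agent.Helper28.C1690.Rel58
import Cfsg.Agent.Helper28.C1690.Rel59
import Cfsg.Agent.Helper28.C1690.Rel60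
import Cfsg.Agent.Helper28.C1690.Rel61
import Cfsg.Agent.Helper28.C1690.Rel62
import Cfsg.Agent.Helper28.C1690.Rel63
import Cfsg.Agent.Helper28.C1690.Rel64
import Cfsg.Agent.Helper28.C1690.Rel65
import Cfsg.Agent.Helper28.C1690.Rel66
import Cfsg.Agent.Helper28.C1690.Rel67
import Cfsg.Agent.Helper28.C1690.Rel68
import Cfsg.Agent.Helper28.C1690.Rel69
import Cfsg.Agent.Helper28.C1690.Rel70
import Cfsg.Agent.Helper28.C1690.Rel71
import Cfsg.Agent.Helper28.C1690.Rel72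
import Cfsg.Agent.Helper28.C1690.Rel73
import Cfsg.Agent.Helper28.C1690.Rel74
import Cfsg.Agent.Helper28.C1690.PwA0
import Cfsg.Agent.Helper28.C1690.PwA1
import Cfsg.Agent.Helper28.C1690.PwA2
import Cfsg.Agent.Helper28.C1690.PwA3
import Cfsg.Agent.Helper28.C1690.PwA4
import Cfsg.Agent.Helper28.C1690.PwA5
import Cfsg.Agent.Helper28.C1690.PwA6
import Cfsg.Agent.Helper28.C1690.PwA7
import Cfsg.Agent.Helper28.C1690.PwA8
import Cfsg.Agent.Helper28.C1690.PwA9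
import Cfsg.Agent.Helper28.C1690.PwA10
import Cfsg.Agent.Helper28.C1690.PwA11
import Cfsg.Agent.Helper28.C1690.PwA12
import Cfsg.Agent.Helper28.C1690.PwA13
import Cfsg.Agent.Helper28.C1690.PwA14
import Cfsg.Agent.Helper28.C1690.PwB0
import Cfsg.Agent.Helper28.C1690.PwB1
import Cfsg.Agent.Helper28.C1690.PwB2
import Cfsg.Agent.Helper28.C1690.PwB3
import Cfsg.Agent.Helper28.C1690.PwB4
import Cfsg.Agent.Helper28.C1690.PwB5
import Cfsg.Agent.Helper28.C1690.PwB6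
import Cfsg.Agent.Helper28.C1690.PwB7
import Cfsg.Agent.Helper28.C1690.PwB8
import Cfsg.Agent.Helper28.C1690.PwB9
import Cfsg.Agent.Helper28.C1690.PwB10
import Cfsg.Agent.Helper28.C1690.PwB11
import Cfsg.Agent.Helper28.C1690.PwB12
import Cfsg.Agent.Helper28.C1690.PwB13
import Cfsg.Agent.Helper28.C1690.PwB14

set_option autoImplicit false
set_option linter.unusedSimpArgs false

namespace Cfsg.Agent.Helper28.C1690

/-- the value of a column (stated here so that no equation lemma of `Gn.cval` is generated in this file) -/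
theorem cval_eq {K : Type} [Group K] (v : Cfsg.Spor.Fi24.Gen → K) (k : ℕ) :
    Cfsg.Agent.Helper28.Gn.cval gen sgn v k = cond (sgn k) (v (gen k))⁻¹ (v (gen k)) := rfl

set_option maxRecDepth 100000 in
theorem rows_all : ∀ x, x < 354544 → Cfsg.Agent.Helper28.Gn.rowChk D x = true :=
  Cfsg.Agent.Helper28.pts_of_chunks _ 354544 512 693 (by decide) (by decide)
    (Cfsg.Agent.Helper28.allLt_succ _ 692 (Cfsg.Agent.Helper28.allLt_succ _ 691 (Cfsg.Agent.Helper28.allLt_succ _ 690 (Cfsg.Agent.Helper28.allLt_succ _ 689 (Cfsg.Agent.Helper28.allLt_succ _ 688 (Cfsg.Agent.Helper28.allLt_succ _ 687 (Cfsg.Agent.Helper28.allLt_succ _ 686 (Cfsg.Agent.Helper28.allLt_succ _ 685 (Cfsg.Agent.Helper28.allLt_succ _ 684 (Cfsg.Agent.Helper28.allLt_succ _ 683 (Cfsg.Agent.Helper28.allLt_succ _ 682 (Cfsg.Agent.Helper28.allLt_succ _ 681 (Cfsg.Agent.Helper28.allLt_succ _ 680 (Cfsg.Agent.Helper28.allLt_succ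 _ 679 (Cfsg.Agent.Helper28.allLt_succ _ 678 (Cfsg.Agent.Helper28.allLt_succ _ 677 (Cfsg.Agent.Helper28.allLt_succ _ 676 (Cfsg.Agent.Helper28.allLt_succ _ 675 (Cfsg.Agent.Helper28.allLt_succ _ 674 (Cfsg.Agent.Helper28.allLt_succ _ 673 (Cfsg.Agent.Helper28.allLt_succ _ 672 (Cfsg.Agent.Helper28.allLt_succ _ 671 (Cfsg.Agent.Helper28.allLt_succ _ 670 (Cfsg.Agent.Helper28.allLt_succ _ 669 (Cfsg.Agent.Helper28.allLt_succ _ 668 (Cfsg.Agent.Helper28.allLt_succ _ 667 (Cfsg.Agent.Helper28.allLt_succ _ 666 (Cfsg.Agent.Helper28.allLt_succ _ 665 (Cfsg.Agent.Helper28.allLt_succ _ 664 (Cfsg.Agent.Helper28.allLt_succ _ 663 (Cfsg.Agent.Helper28.allLt_succ _ 662 (Cfsg.Agent.Helper28.allLt_succ _ 661 (Cfsg.Agent.Helper28.allLt_succ _ 660 (Cfsg.Agent.Helper28.allLt_succ _ 659 (Cfsg.Agent.Helper28.allLt_succ _ 658 (Cfsg.Agent.Helper28.allLt_succ _ 657 (Cfsg.Agent.Helper28.allLt_succ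 _ 656 (Cfsg.Agent.Helper28.allLt_succ _ 655 (Cfsg.Agent.Helper28.allLt_succ _ 654 (Cfsg.Agent.Helper28.allLt_succ _ 653 (Cfsg.Agent.Helper28.allLt_succ _ 652 (Cfsg.Agent.Helper28.allLt_succ _ 651 (Cfsg.Agent.Helper28.allLt_succ _ 650 (Cfsg.Agent.Helper28.allLt_succ _ 649 (Cfsg.Agent.Helper28.allLt_succ _ 648 (Cfsg.Agent.Helper28.allLt_succ _ 647 (Cfsg.Agent.Helper28.allLt_succ _ 646 (Cfsg.Agent.Helper28.allLt_succ _ 645 (Cfsg.Agent.Helper28.allLt_succ _ 644 (Cfsg.Agent.Helper28.allLt_succ _ 643 (Cfsg.Agent.Helper28.allLt_succ _ 642 (Cfsg.Agent.Helper28.allLt_succ _ 641 (Cfsg.Agent.Helper28.allLt_succ _ 640 (Cfsg.Agent.Helper28.allLt_succ _ 639 (Cfsg.Agent.Helper28.allLt_succ _ 638 (Cfsg.Agent.Helper28.allLt_succ _ 637 (Cfsg.Agent.Helper28.allLt_succ _ 636 (Cfsg.Agent.Helper28.allLt_succ _ 635 (Cfsg.Agent.Helper28.allLt_succ _ 634 (Cfsg.Agent.Helper28.allLt_succ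 _ 633 (Cfsg.Agent.Helper28.allLt_succ _ 632 (Cfsg.Agent.Helper28.allLt_succ _ 631 (Cfsg.Agent.Helper28.allLt_succ _ 630 (Cfsg.Agent.Helper28.allLt_succ _ 629 (Cfsg.Agent.Helper28.allLt_succ _ 628 (Cfsg.Agent.Helper28.allLt_succ _ 627 (Cfsg.Agent.Helper28.allLt_succ _ 626 (Cfsg.Agent.Helper28.allLt_succ _ 625 (Cfsg.Agent.Helper28.allLt_succ _ 624 (Cfsg.Agent.Helper28.allLt_succ _ 623 (Cfsg.Agent.Helper28.allLt_succ _ 622 (Cfsg.Agent.Helper28.allLt_succ _ 621 (Cfsg.Agent.Helper28.allLt_succ _ 620 (Cfsg.Agent.Helper28.allLt_succ _ 619 (Cfsg.Agent.Helper28.allLt_succ _ 618 (Cfsg.Agent.Helper28.allLt_succ _ 617 (Cfsg.Agent.Helper28.allLt_succ _ 616 (Cfsg.Agent.Helper28.allLt_succ _ 615 (Cfsg.Agent.Helper28.allLt_succ _ 614 (Cfsg.Agent.Helper28.allLt_succ _ 613 (Cfsg.Agent.Helper28.allLt_succ _ 612 (Cfsg.Agent.Helper28.allLt_succ _ 611 (Cfsg.Agent.Helper28.allLt_succ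 _ 610 (Cfsg.Agent.Helper28.allLt_succ _ 609 (Cfsg.Agent.Helper28.allLt_succ _ 608 (Cfsg.Agent.Helper28.allLt_succ _ 607 (Cfsg.Agent.Helper28.allLt_succ _ 606 (Cfsg.Agent.Helper28.allLt_succ _ 605 (Cfsg.Agent.Helper28.allLt_succ _ 604 (Cfsg.Agent.Helper28.allLt_succ _ 603 (Cfsg.Agent.Helper28.allLt_succ _ 602 (Cfsg.Agent.Helper28.allLt_succ _ 601 (Cfsg.Agent.Helper28.allLt_succ _ 600 (Cfsg.Agent.Helper28.allLt_succ _ 599 (Cfsg.Agent.Helper28.allLt_succ _ 598 (Cfsg.Agent.Helper28.allLt_succ _ 597 (Cfsg.Agent.Helper28.allLt_succ _ 596 (Cfsg.Agent.Helper28.allLt_succ _ 595 (Cfsg.Agent.Helper28.allLt_succ _ 594 (Cfsg.Agent.Helper28.allLt_succ _ 593 (Cfsg.Agent.Helper28.allLt_succ _ 592 (Cfsg.Agent.Helper28.allLt_succ _ 591 (Cfsg.Agent.Helper28.allLt_succ _ 590 (Cfsg.Agent.Helper28.allLt_succ _ 589 (Cfsg.Agent.Helper28.allLt_succ _ 588 (Cfsg.Agent.Helper28.allLt_succ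 _ 587 (Cfsg.Agent.Helper28.allLt_succ _ 586 (Cfsg.Agent.Helper28.allLt_succ _ 585 (Cfsg.Agent.Helper28.allLt_succ _ 584 (Cfsg.Agent.Helper28.allLt_succ _ 583 (Cfsg.Agent.Helper28.allLt_succ _ 582 (Cfsg.Agent.Helper28.allLt_succ _ 581 (Cfsg.Agent.Helper28.allLt_succ _ 580 (Cfsg.Agent.Helper28.allLt_succ _ 579 (Cfsg.Agent.Helper28.allLt_succ _ 578 (Cfsg.Agent.Helper28.allLt_succ _ 577 (Cfsg.Agent.Helper28.allLt_succ _ 576 (Cfsg.Agent.Helper28.allLt_succ _ 575 (Cfsg.Agent.Helper28.allLt_succ _ 574 (Cfsg.Agent.Helper28.allLt_succ _ 573 (Cfsg.Agent.Helper28.allLt_succ _ 572 (Cfsg.Agent.Helper28.allLt_succ _ 571 (Cfsg.Agent.Helper28.allLt_succ _ 570 (Cfsg.Agent.Helper28.allLt_succ _ 569 (Cfsg.Agent.Helper28.allLt_succ _ 568 (Cfsg.Agent.Helper28.allLt_succ _ 567 (Cfsg.Agent.Helper28.allLt_succ _ 566 (Cfsg.Agent.Helper28.allLt_succ _ 565 (Cfsg.Agent.Helper28.allLt_succ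 _ 564 (Cfsg.Agent.Helper28.allLt_succ _ 563 (Cfsg.Agent.Helper28.allLt_succ _ 562 (Cfsg.Agent.Helper28.allLt_succ _ 561 (Cfsg.Agent.Helper28.allLt_succ _ 560 (Cfsg.Agent.Helper28.allLt_succ _ 559 (Cfsg.Agent.Helper28.allLt_succ _ 558 (Cfsg.Agent.Helper28.allLt_succ _ 557 (Cfsg.Agent.Helper28.allLt_succ _ 556 (Cfsg.Agent.Helper28.allLt_succ _ 555 (Cfsg.Agent.Helper28.allLt_succ _ 554 (Cfsg.Agent.Helper28.allLt_succ _ 553 (Cfsg.Agent.Helper28.allLt_succ _ 552 (Cfsg.Agent.Helper28.allLt_succ _ 551 (Cfsg.Agent.Helper28.allLt_succ _ 550 (Cfsg.Agent.Helper28.allLt_succ _ 549 (Cfsg.Agent.Helper28.allLt_succ _ 548 (Cfsg.Agent.Helper28.allLt_succ _ 547 (Cfsg.Agent.Helper28.allLt_succ _ 546 (Cfsg.Agent.Helper28.allLt_succ _ 545 (Cfsg.Agent.Helper28.allLt_succ _ 544 (Cfsg.Agent.Helper28.allLt_succ _ 543 (Cfsg.Agent.Helper28.allLt_succ _ 542 (Cfsg.Agent.Helper28.allLt_succ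 _ 541 (Cfsg.Agent.Helper28.allLt_succ _ 540 (Cfsg.Agent.Helper28.allLt_succ _ 539 (Cfsg.Agent.Helper28.allLt_succ _ 538 (Cfsg.Agent.Helper28.allLt_succ _ 537 (Cfsg.Agent.Helper28.allLt_succ _ 536 (Cfsg.Agent.Helper28.allLt_succ _ 535 (Cfsg.Agent.Helper28.allLt_succ _ 534 (Cfsg.Agent.Helper28.allLt_succ _ 533 (Cfsg.Agent.Helper28.allLt_succ _ 532 (Cfsg.Agent.Helper28.allLt_succ _ 531 (Cfsg.Agent.Helper28.allLt_succ _ 530 (Cfsg.Agent.Helper28.allLt_succ _ 529 (Cfsg.Agent.Helper28.allLt_succ _ 528 (Cfsg.Agent.Helper28.allLt_succ _ 527 (Cfsg.Agent.Helper28.allLt_succ _ 526 (Cfsg.Agent.Helper28.allLt_succ _ 525 (Cfsg.Agent.Helper28.allLt_succ _ 524 (Cfsg.Agent.Helper28.allLt_succ _ 523 (Cfsg.Agent.Helper28.allLt_succ _ 522 (Cfsg.Agent.Helper28.allLt_succ _ 521 (Cfsg.Agent.Helper28.allLt_succ _ 520 (Cfsg.Agent.Helper28.allLt_succ _ 519 (Cfsg.Agent.Helper28.allLt_succ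 _ 518 (Cfsg.Agent.Helper28.allLt_succ _ 517 (Cfsg.Agent.Helper28.allLt_succ _ 516 (Cfsg.Agent.Helper28.allLt_succ _ 515 (Cfsg.Agent.Helper28.allLt_succ _ 514 (Cfsg.Agent.Helper28.allLt_succ _ 513 (Cfsg.Agent.Helper28.allLt_succ _ 512 (Cfsg.Agent.Helper28.allLt_succ _ 511 (Cfsg.Agent.Helper28.allLt_succ _ 510 (Cfsg.Agent.Helper28.allLt_succ _ 509 (Cfsg.Agent.Helper28.allLt_succ _ 508 (Cfsg.Agent.Helper28.allLt_succ _ 507 (Cfsg.Agent.Helper28.allLt_succ _ 506 (Cfsg.Agent.Helper28.allLt_succ _ 505 (Cfsg.Agent.Helper28.allLt_succ _ 504 (Cfsg.Agent.Helper28.allLt_succ _ 503 (Cfsg.Agent.Helper28.allLt_succ _ 502 (Cfsg.Agent.Helper28.allLt_succ _ 501 (Cfsg.Agent.Helper28.allLt_succ _ 500 (Cfsg.Agent.Helper28.allLt_succ _ 499 (Cfsg.Agent.Helper28.allLt_succ _ 498 (Cfsg.Agent.Helper28.allLt_succ _ 497 (Cfsg.Agent.Helper28.allLt_succ _ 496 (Cfsg.Agent.Helper28.allLt_succ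 _ 495 (Cfsg.Agent.Helper28.allLt_succ _ 494 (Cfsg.Agent.Helper28.allLt_succ _ 493 (Cfsg.Agent.Helper28.allLt_succ _ 492 (Cfsg.Agent.Helper28.allLt_succ _ 491 (Cfsg.Agent.Helper28.allLt_succ _ 490 (Cfsg.Agent.Helper28.allLt_succ _ 489 (Cfsg.Agent.Helper28.allLt_succ _ 488 (Cfsg.Agent.Helper28.allLt_succ _ 487 (Cfsg.Agent.Helper28.allLt_succ _ 486 (Cfsg.Agent.Helper28.allLt_succ _ 485 (Cfsg.Agent.Helper28.allLt_succ _ 484 (Cfsg.Agent.Helper28.allLt_succ _ 483 (Cfsg.Agent.Helper28.allLt_succ _ 482 (Cfsg.Agent.Helper28.allLt_succ _ 481 (Cfsg.Agent.Helper28.allLt_succ _ 480 (Cfsg.Agent.Helper28.allLt_succ _ 479 (Cfsg.Agent.Helper28.allLt_succ _ 478 (Cfsg.Agent.Helper28.allLt_succ _ 477 (Cfsg.Agent.Helper28.allLt_succ _ 476 (Cfsg.Agent.Helper28.allLt_succ _ 475 (Cfsg.Agent.Helper28.allLt_succ _ 474 (Cfsg.Agent.Helper28.allLt_succ _ 473 (Cfsg.Agent.Helper28.allLt_succ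 _ 472 (Cfsg.Agent.Helper28.allLt_succ _ 471 (Cfsg.Agent.Helper28.allLt_succ _ 470 (Cfsg.Agent.Helper28.allLt_succ _ 469 (Cfsg.Agent.Helper28.allLt_succ _ 468 (Cfsg.Agent.Helper28.allLt_succ _ 467 (Cfsg.Agent.Helper28.allLt_succ _ 466 (Cfsg.Agent.Helper28.allLt_succ _ 465 (Cfsg.Agent.Helper28.allLt_succ _ 464 (Cfsg.Agent.Helper28.allLt_succ _ 463 (Cfsg.Agent.Helper28.allLt_succ _ 462 (Cfsg.Agent.Helper28.allLt_succ _ 461 (Cfsg.Agent.Helper28.allLt_succ _ 460 (Cfsg.Agent.Helper28.allLt_succ _ 459 (Cfsg.Agent.Helper28.allLt_succ _ 458 (Cfsg.Agent.Helper28.allLt_succ _ 457 (Cfsg.Agent.Helper28.allLt_succ _ 456 (Cfsg.Agent.Helper28.allLt_succ _ 455 (Cfsg.Agent.Helper28.allLt_succ _ 454 (Cfsg.Agent.Helper28.allLt_succ _ 453 (Cfsg.Agent.Helper28.allLt_succ _ 452 (Cfsg.Agent.Helper28.allLt_succ _ 451 (Cfsg.Agent.Helper28.allLt_succ _ 450 (Cfsg.Agent.Helper28.allLt_succ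 _ 449 (Cfsg.Agent.Helper28.allLt_succ _ 448 (Cfsg.Agent.Helper28.allLt_succ _ 447 (Cfsg.Agent.Helper28.allLt_succ _ 446 (Cfsg.Agent.Helper28.allLt_succ _ 445 (Cfsg.Agent.Helper28.allLt_succ _ 444 (Cfsg.Agent.Helper28.allLt_succ _ 443 (Cfsg.Agent.Helper28.allLt_succ _ 442 (Cfsg.Agent.Helper28.allLt_succ _ 441 (Cfsg.Agent.Helper28.allLt_succ _ 440 (Cfsg.Agent.Helper28.allLt_succ _ 439 (Cfsg.Agent.Helper28.allLt_succ _ 438 (Cfsg.Agent.Helper28.allLt_succ _ 437 (Cfsg.Agent.Helper28.allLt_succ _ 436 (Cfsg.Agent.Helper28.allLt_succ _ 435 (Cfsg.Agent.Helper28.allLt_succ _ 434 (Cfsg.Agent.Helper28.allLt_succ _ 433 (Cfsg.Agent.Helper28.allLt_succ _ 432 (Cfsg.Agent.Helper28.allLt_succ _ 431 (Cfsg.Agent.Helper28.allLt_succ _ 430 (Cfsg.Agent.Helper28.allLt_succ _ 429 (Cfsg.Agent.Helper28.allLt_succ _ 428 (Cfsg.Agent.Helper28.allLt_succ _ 427 (Cfsg.Agent.Helper28.allLt_succ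 _ 426 (Cfsg.Agent.Helper28.allLt_succ _ 425 (Cfsg.Agent.Helper28.allLt_succ _ 424 (Cfsg.Agent.Helper28.allLt_succ _ 423 (Cfsg.Agent.Helper28.allLt_succ _ 422 (Cfsg.Agent.Helper28.allLt_succ _ 421 (Cfsg.Agent.Helper28.allLt_succ _ 420 (Cfsg.Agent.Helper28.allLt_succ _ 419 (Cfsg.Agent.Helper28.allLt_succ _ 418 (Cfsg.Agent.Helper28.allLt_succ _ 417 (Cfsg.Agent.Helper28.allLt_succ _ 416 (Cfsg.Agent.Helper28.allLt_succ _ 415 (Cfsg.Agent.Helper28.allLt_succ _ 414 (Cfsg.Agent.Helper28.allLt_succ _ 413 (Cfsg.Agent.Helper28.allLt_succ _ 412 (Cfsg.Agent.Helper28.allLt_succ _ 411 (Cfsg.Agent.Helper28.allLt_succ _ 410 (Cfsg.Agent.Helper28.allLt_succ _ 409 (Cfsg.Agent.Helper28.allLt_succ _ 408 (Cfsg.Agent.Helper28.allLt_succ _ 407 (Cfsg.Agent.Helper28.allLt_succ _ 406 (Cfsg.Agent.Helper28.allLt_succ _ 405 (Cfsg.Agent.Helper28.allLt_succ _ 404 (Cfsg.Agent.Helper28.allLt_succ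 _ 403 (Cfsg.Agent.Helper28.allLt_succ _ 402 (Cfsg.Agent.Helper28.allLt_succ _ 401 (Cfsg.Agent.Helper28.allLt_succ _ 400 (Cfsg.Agent.Helper28.allLt_succ _ 399 (Cfsg.Agent.Helper28.allLt_succ _ 398 (Cfsg.Agent.Helper28.allLt_succ _ 397 (Cfsg.Agent.Helper28.allLt_succ _ 396 (Cfsg.Agent.Helper28.allLt_succ _ 395 (Cfsg.Agent.Helper28.allLt_succ _ 394 (Cfsg.Agent.Helper28.allLt_succ _ 393 (Cfsg.Agent.Helper28.allLt_succ _ 392 (Cfsg.Agent.Helper28.allLt_succ _ 391 (Cfsg.Agent.Helper28.allLt_succ _ 390 (Cfsg.Agent.Helper28.allLt_succ _ 389 (Cfsg.Agent.Helper28.allLt_succ _ 388 (Cfsg.Agent.Helper28.allLt_succ _ 387 (Cfsg.Agent.Helper28.allLt_succ _ 386 (Cfsg.Agent.Helper28.allLt_succ _ 385 (Cfsg.Agent.Helper28.allLt_succ _ 384 (Cfsg.Agent.Helper28.allLt_succ _ 383 (Cfsg.Agent.Helper28.allLt_succ _ 382 (Cfsg.Agent.Helper28.allLt_succ _ 381 (Cfsg.Agent.Helper28.allLt_succ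 _ 380 (Cfsg.Agent.Helper28.allLt_succ _ 379 (Cfsg.Agent.Helper28.allLt_succ _ 378 (Cfsg.Agent.Helper28.allLt_succ _ 377 (Cfsg.Agent.Helper28.allLt_succ _ 376 (Cfsg.Agent.Helper28.allLt_succ _ 375 (Cfsg.Agent.Helper28.allLt_succ _ 374 (Cfsg.Agent.Helper28.allLt_succ _ 373 (Cfsg.Agent.Helper28.allLt_succ _ 372 (Cfsg.Agent.Helper28.allLt_succ _ 371 (Cfsg.Agent.Helper28.allLt_succ _ 370 (Cfsg.Agent.Helper28.allLt_succ _ 369 (Cfsg.Agent.Helper28.allLt_succ _ 368 (Cfsg.Agent.Helper28.allLt_succ _ 367 (Cfsg.Agent.Helper28.allLt_succ _ 366 (Cfsg.Agent.Helper28.allLt_succ _ 365 (Cfsg.Agent.Helper28.allLt_succ _ 364 (Cfsg.Agent.Helper28.allLt_succ _ 363 (Cfsg.Agent.Helper28.allLt_succ _ 362 (Cfsg.Agent.Helper28.allLt_succ _ 361 (Cfsg.Agent.Helper28.allLt_succ _ 360 (Cfsg.Agent.Helper28.allLt_succ _ 359 (Cfsg.Agent.Helper28.allLt_succ _ 358 (Cfsg.Agent.Helper28.allLt_succ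 _ 357 (Cfsg.Agent.Helper28.allLt_succ _ 356 (Cfsg.Agent.Helper28.allLt_succ _ 355 (Cfsg.Agent.Helper28.allLt_succ _ 354 (Cfsg.Agent.Helper28.allLt_succ _ 353 (Cfsg.Agent.Helper28.allLt_succ _ 352 (Cfsg.Agent.Helper28.allLt_succ _ 351 (Cfsg.Agent.Helper28.allLt_succ _ 350 (Cfsg.Agent.Helper28.allLt_succ _ 349 (Cfsg.Agent.Helper28.allLt_succ _ 348 (Cfsg.Agent.Helper28.allLt_succ _ 347 (Cfsg.Agent.Helper28.allLt_succ _ 346 (Cfsg.Agent.Helper28.allLt_succ _ 345 (Cfsg.Agent.Helper28.allLt_succ _ 344 (Cfsg.Agent.Helper28.allLt_succ _ 343 (Cfsg.Agent.Helper28.allLt_succ _ 342 (Cfsg.Agent.Helper28.allLt_succ _ 341 (Cfsg.Agent.Helper28.allLt_succ _ 340 (Cfsg.Agent.Helper28.allLt_succ _ 339 (Cfsg.Agent.Helper28.allLt_succ _ 338 (Cfsg.Agent.Helper28.allLt_succ _ 337 (Cfsg.Agent.Helper28.allLt_succ _ 336 (Cfsg.Agent.Helper28.allLt_succ _ 335 (Cfsg.Agent.Helper28.allLt_succ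 _ 334 (Cfsg.Agent.Helper28.allLt_succ _ 333 (Cfsg.Agent.Helper28.allLt_succ _ 332 (Cfsg.Agent.Helper28.allLt_succ _ 331 (Cfsg.Agent.Helper28.allLt_succ _ 330 (Cfsg.Agent.Helper28.allLt_succ _ 329 (Cfsg.Agent.Helper28.allLt_succ _ 328 (Cfsg.Agent.Helper28.allLt_succ _ 327 (Cfsg.Agent.Helper28.allLt_succ _ 326 (Cfsg.Agent.Helper28.allLt_succ _ 325 (Cfsg.Agent.Helper28.allLt_succ _ 324 (Cfsg.Agent.Helper28.allLt_succ _ 323 (Cfsg.Agent.Helper28.allLt_succ _ 322 (Cfsg.Agent.Helper28.allLt_succ _ 321 (Cfsg.Agent.Helper28.allLt_succ _ 320 (Cfsg.Agent.Helper28.allLt_succ _ 319 (Cfsg.Agent.Helper28.allLt_succ _ 318 (Cfsg.Agent.Helper28.allLt_succ _ 317 (Cfsg.Agent.Helper28.allLt_succ _ 316 (Cfsg.Agent.Helper28.allLt_succ _ 315 (Cfsg.Agent.Helper28.allLt_succ _ 314 (Cfsg.Agent.Helper28.allLt_succ _ 313 (Cfsg.Agent.Helper28.allLt_succ _ 312 (Cfsg.Agent.Helper28.allLt_succ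 _ 311 (Cfsg.Agent.Helper28.allLt_succ _ 310 (Cfsg.Agent.Helper28.allLt_succ _ 309 (Cfsg.Agent.Helper28.allLt_succ _ 308 (Cfsg.Agent.Helper28.allLt_succ _ 307 (Cfsg.Agent.Helper28.allLt_succ _ 306 (Cfsg.Agent.Helper28.allLt_succ _ 305 (Cfsg.Agent.Helper28.allLt_succ _ 304 (Cfsg.Agent.Helper28.allLt_succ _ 303 (Cfsg.Agent.Helper28.allLt_succ _ 302 (Cfsg.Agent.Helper28.allLt_succ _ 301 (Cfsg.Agent.Helper28.allLt_succ _ 300 (Cfsg.Agent.Helper28.allLt_succ _ 299 (Cfsg.Agent.Helper28.allLt_succ _ 298 (Cfsg.Agent.Helper28.allLt_succ _ 297 (Cfsg.Agent.Helper28.allLt_succ _ 296 (Cfsg.Agent.Helper28.allLt_succ _ 295 (Cfsg.Agent.Helper28.allLt_succ _ 294 (Cfsg.Agent.Helper28.allLt_succ _ 293 (Cfsg.Agent.Helper28.allLt_succ _ 292 (Cfsg.Agent.Helper28.allLt_succ _ 291 (Cfsg.Agent.Helper28.allLt_succ _ 290 (Cfsg.Agent.Helper28.allLt_succ _ 289 (Cfsg.Agent.Helper28.allLt_succ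 _ 288 (Cfsg.Agent.Helper28.allLt_succ _ 287 (Cfsg.Agent.Helper28.allLt_succ _ 286 (Cfsg.Agent.Helper28.allLt_succ _ 285 (Cfsg.Agent.Helper28.allLt_succ _ 284 (Cfsg.Agent.Helper28.allLt_succ _ 283 (Cfsg.Agent.Helper28.allLt_succ _ 282 (Cfsg.Agent.Helper28.allLt_succ _ 281 (Cfsg.Agent.Helper28.allLt_succ _ 280 (Cfsg.Agent.Helper28.allLt_succ _ 279 (Cfsg.Agent.Helper28.allLt_succ _ 278 (Cfsg.Agent.Helper28.allLt_succ _ 277 (Cfsg.Agent.Helper28.allLt_succ _ 276 (Cfsg.Agent.Helper28.allLt_succ _ 275 (Cfsg.Agent.Helper28.allLt_succ _ 274 (Cfsg.Agent.Helper28.allLt_succ _ 273 (Cfsg.Agent.Helper28.allLt_succ _ 272 (Cfsg.Agent.Helper28.allLt_succ _ 271 (Cfsg.Agent.Helper28.allLt_succ _ 270 (Cfsg.Agent.Helper28.allLt_succ _ 269 (Cfsg.Agent.Helper28.allLt_succ _ 268 (Cfsg.Agent.Helper28.allLt_succ _ 267 (Cfsg.Agent.Helper28.allLt_succ _ 266 (Cfsg.Agent.Helper28.allLt_succ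 _ 265 (Cfsg.Agent.Helper28.allLt_succ _ 264 (Cfsg.Agent.Helper28.allLt_succ _ 263 (Cfsg.Agent.Helper28.allLt_succ _ 262 (Cfsg.Agent.Helper28.allLt_succ _ 261 (Cfsg.Agent.Helper28.allLt_succ _ 260 (Cfsg.Agent.Helper28.allLt_succ _ 259 (Cfsg.Agent.Helper28.allLt_succ _ 258 (Cfsg.Agent.Helper28.allLt_succ _ 257 (Cfsg.Agent.Helper28.allLt_succ _ 256 (Cfsg.Agent.Helper28.allLt_succ _ 255 (Cfsg.Agent.Helper28.allLt_succ _ 254 (Cfsg.Agent.Helper28.allLt_succ _ 253 (Cfsg.Agent.Helper28.allLt_succ _ 252 (Cfsg.Agent.Helper28.allLt_succ _ 251 (Cfsg.Agent.Helper28.allLt_succ _ 250 (Cfsg.Agent.Helper28.allLt_succ _ 249 (Cfsg.Agent.Helper28.allLt_succ _ 248 (Cfsg.Agent.Helper28.allLt_succ _ 247 (Cfsg.Agent.Helper28.allLt_succ _ 246 (Cfsg.Agent.Helper28.allLt_succ _ 245 (Cfsg.Agent.Helper28.allLt_succ _ 244 (Cfsg.Agent.Helper28.allLt_succ _ 243 (Cfsg.Agent.Helper28.allLt_succ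 _ 242 (Cfsg.Agent.Helper28.allLt_succ _ 241 (Cfsg.Agent.Helper28.allLt_succ _ 240 (Cfsg.Agent.Helper28.allLt_succ _ 239 (Cfsg.Agent.Helper28.allLt_succ _ 238 (Cfsg.Agent.Helper28.allLt_succ _ 237 (Cfsg.Agent.Helper28.allLt_succ _ 236 (Cfsg.Agent.Helper28.allLt_succ _ 235 (Cfsg.Agent.Helper28.allLt_succ _ 234 (Cfsg.Agent.Helper28.allLt_succ _ 233 (Cfsg.Agent.Helper28.allLt_succ _ 232 (Cfsg.Agent.Helper28.allLt_succ _ 231 (Cfsg.Agent.Helper28.allLt_succ _ 230 (Cfsg.Agent.Helper28.allLt_succ _ 229 (Cfsg.Agent.Helper28.allLt_succ _ 228 (Cfsg.Agent.Helper28.allLt_succ _ 227 (Cfsg.Agent.Helper28.allLt_succ _ 226 (Cfsg.Agent.Helper28.allLt_succ _ 225 (Cfsg.Agent.Helper28.allLt_succ _ 224 (Cfsg.Agent.Helper28.allLt_succ _ 223 (Cfsg.Agent.Helper28.allLt_succ _ 222 (Cfsg.Agent.Helper28.allLt_succ _ 221 (Cfsg.Agent.Helper28.allLt_succ _ 220 (Cfsg.Agent.Helper28.allLt_succ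 _ 219 (Cfsg.Agent.Helper28.allLt_succ _ 218 (Cfsg.Agent.Helper28.allLt_succ _ 217 (Cfsg.Agent.Helper28.allLt_succ _ 216 (Cfsg.Agent.Helper28.allLt_succ _ 215 (Cfsg.Agent.Helper28.allLt_succ _ 214 (Cfsg.Agent.Helper28.allLt_succ _ 213 (Cfsg.Agent.Helper28.allLt_succ _ 212 (Cfsg.Agent.Helper28.allLt_succ _ 211 (Cfsg.Agent.Helper28.allLt_succ _ 210 (Cfsg.Agent.Helper28.allLt_succ _ 209 (Cfsg.Agent.Helper28.allLt_succ _ 208 (Cfsg.Agent.Helper28.allLt_succ _ 207 (Cfsg.Agent.Helper28.allLt_succ _ 206 (Cfsg.Agent.Helper28.allLt_succ _ 205 (Cfsg.Agent.Helper28.allLt_succ _ 204 (Cfsg.Agent.Helper28.allLt_succ _ 203 (Cfsg.Agent.Helper28.allLt_succ _ 202 (Cfsg.Agent.Helper28.allLt_succ _ 201 (Cfsg.Agent.Helper28.allLt_succ _ 200 (Cfsg.Agent.Helper28.allLt_succ _ 199 (Cfsg.Agent.Helper28.allLt_succ _ 198 (Cfsg.Agent.Helper28.allLt_succ _ 197 (Cfsg.Agent.Helper28.allLt_succ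 _ 196 (Cfsg.Agent.Helper28.allLt_succ _ 195 (Cfsg.Agent.Helper28.allLt_succ _ 194 (Cfsg.Agent.Helper28.allLt_succ _ 193 (Cfsg.Agent.Helper28.allLt_succ _ 192 (Cfsg.Agent.Helper28.allLt_succ _ 191 (Cfsg.Agent.Helper28.allLt_succ _ 190 (Cfsg.Agent.Helper28.allLt_succ _ 189 (Cfsg.Agent.Helper28.allLt_succ _ 188 (Cfsg.Agent.Helper28.allLt_succ _ 187 (Cfsg.Agent.Helper28.allLt_succ _ 186 (Cfsg.Agent.Helper28.allLt_succ _ 185 (Cfsg.Agent.Helper28.allLt_succ _ 184 (Cfsg.Agent.Helper28.allLt_succ _ 183 (Cfsg.Agent.Helper28.allLt_succ _ 182 (Cfsg.Agent.Helper28.allLt_succ _ 181 (Cfsg.Agent.Helper28.allLt_succ _ 180 (Cfsg.Agent.Helper28.allLt_succ _ 179 (Cfsg.Agent.Helper28.allLt_succ _ 178 (Cfsg.Agent.Helper28.allLt_succ _ 177 (Cfsg.Agent.Helper28.allLt_succ _ 176 (Cfsg.Agent.Helper28.allLt_succ _ 175 (Cfsg.Agent.Helper28.allLt_succ _ 174 (Cfsg.Agent.Helper28.allLt_succ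 _ 173 (Cfsg.Agent.Helper28.allLt_succ _ 172 (Cfsg.Agent.Helper28.allLt_succ _ 171 (Cfsg.Agent.Helper28.allLt_succ _ 170 (Cfsg.Agent.Helper28.allLt_succ _ 169 (Cfsg.Agent.Helper28.allLt_succ _ 168 (Cfsg.Agent.Helper28.allLt_succ _ 167 (Cfsg.Agent.Helper28.allLt_succ _ 166 (Cfsg.Agent.Helper28.allLt_succ _ 165 (Cfsg.Agent.Helper28.allLt_succ _ 164 (Cfsg.Agent.Helper28.allLt_succ _ 163 (Cfsg.Agent.Helper28.allLt_succ _ 162 (Cfsg.Agent.Helper28.allLt_succ _ 161 (Cfsg.Agent.Helper28.allLt_succ _ 160 (Cfsg.Agent.Helper28.allLt_succ _ 159 (Cfsg.Agent.Helper28.allLt_succ _ 158 (Cfsg.Agent.Helper28.allLt_succ _ 157 (Cfsg.Agent.Helper28.allLt_succ _ 156 (Cfsg.Agent.Helper28.allLt_succ _ 155 (Cfsg.Agent.Helper28.allLt_succ _ 154 (Cfsg.Agent.Helper28.allLt_succ _ 153 (Cfsg.Agent.Helper28.allLt_succ _ 152 (Cfsg.Agent.Helper28.allLt_succ _ 151 (Cfsg.Agent.Helper28.allLt_succ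 _ 150 (Cfsg.Agent.Helper28.allLt_succ _ 149 (Cfsg.Agent.Helper28.allLt_succ _ 148 (Cfsg.Agent.Helper28.allLt_succ _ 147 (Cfsg.Agent.Helper28.allLt_succ _ 146 (Cfsg.Agent.Helper28.allLt_succ _ 145 (Cfsg.Agent.Helper28.allLt_succ _ 144 (Cfsg.Agent.Helper28.allLt_succ _ 143 (Cfsg.Agent.Helper28.allLt_succ _ 142 (Cfsg.Agent.Helper28.allLt_succ _ 141 (Cfsg.Agent.Helper28.allLt_succ _ 140 (Cfsg.Agent.Helper28.allLt_succ _ 139 (Cfsg.Agent.Helper28.allLt_succ _ 138 (Cfsg.Agent.Helper28.allLt_succ _ 137 (Cfsg.Agent.Helper28.allLt_succ _ 136 (Cfsg.Agent.Helper28.allLt_succ _ 135 (Cfsg.Agent.Helper28.allLt_succ _ 134 (Cfsg.Agent.Helper28.allLt_succ _ 133 (Cfsg.Agent.Helper28.allLt_succ _ 132 (Cfsg.Agent.Helper28.allLt_succ _ 131 (Cfsg.Agent.Helper28.allLt_succ _ 130 (Cfsg.Agent.Helper28.allLt_succ _ 129 (Cfsg.Agent.Helper28.allLt_succ _ 128 (Cfsg.Agent.Helper28.allLt_succ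 _ 127 (Cfsg.Agent.Helper28.allLt_succ _ 126 (Cfsg.Agent.Helper28.allLt_succ _ 125 (Cfsg.Agent.Helper28.allLt_succ _ 124 (Cfsg.Agent.Helper28.allLt_succ _ 123 (Cfsg.Agent.Helper28.allLt_succ _ 122 (Cfsg.Agent.Helper28.allLt_succ _ 121 (Cfsg.Agent.Helper28.allLt_succ _ 120 (Cfsg.Agent.Helper28.allLt_succ _ 119 (Cfsg.Agent.Helper28.allLt_succ _ 118 (Cfsg.Agent.Helper28.allLt_succ _ 117 (Cfsg.Agent.Helper28.allLt_succ _ 116 (Cfsg.Agent.Helper28.allLt_succ _ 115 (Cfsg.Agent.Helper28.allLt_succ _ 114 (Cfsg.Agent.Helper28.allLt_succ _ 113 (Cfsg.Agent.Helper28.allLt_succ _ 112 (Cfsg.Agent.Helper28.allLt_succ _ 111 (Cfsg.Agent.Helper28.allLt_succ _ 110 (Cfsg.Agent.Helper28.allLt_succ _ 109 (Cfsg.Agent.Helper28.allLt_succ _ 108 (Cfsg.Agent.Helper28.allLt_succ _ 107 (Cfsg.Agent.Helper28.allLt_succ _ 106 (Cfsg.Agent.Helper28.allLt_succ _ 105 (Cfsg.Agent.Helper28.allLt_succ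 _ 104 (Cfsg.Agent.Helper28.allLt_succ _ 103 (Cfsg.Agent.Helper28.allLt_succ _ 102 (Cfsg.Agent.Helper28.allLt_succ _ 101 (Cfsg.Agent.Helper28.allLt_succ _ 100 (Cfsg.Agent.Helper28.allLt_succ _ 99 (Cfsg.Agent.Helper28.allLt_succ _ 98 (Cfsg.Agent.Helper28.allLt_succ _ 97 (Cfsg.Agent.Helper28.allLt_succ _ 96 (Cfsg.Agent.Helper28.allLt_succ _ 95 (Cfsg.Agent.Helper28.allLt_succ _ 94 (Cfsg.Agent.Helper28.allLt_succ _ 93 (Cfsg.Agent.Helper28.allLt_succ _ 92 (Cfsg.Agent.Helper28.allLt_succ _ 91 (Cfsg.Agent.Helper28.allLt_succ _ 90 (Cfsg.Agent.Helper28.allLt_succ _ 89 (Cfsg.Agent.Helper28.allLt_succ _ 88 (Cfsg.Agent.Helper28.allLt_succ _ 87 (Cfsg.Agent.Helper28.allLt_succ _ 86 (Cfsg.Agent.Helper28.allLt_succ _ 85 (Cfsg.Agent.Helper28.allLt_succ _ 84 (Cfsg.Agent.Helper28.allLt_succ _ 83 (Cfsg.Agent.Helper28.allLt_succ _ 82 (Cfsg.Agent.Helper28.allLt_succ _ 81 (Cfsg.Agent.Helper28.allLt_succ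 _ 80 (Cfsg.Agent.Helper28.allLt_succ _ 79 (Cfsg.Agent.Helper28.allLt_succ _ 78 (Cfsg.Agent.Helper28.allLt_succ _ 77 (Cfsg.Agent.Helper28.allLt_succ _ 76 (Cfsg.Agent.Helper28.allLt_succ _ 75 (Cfsg.Agent.Helper28.allLt_succ _ 74 (Cfsg.Agent.Helper28.allLt_succ _ 73 (Cfsg.Agent.Helper28.allLt_succ _ 72 (Cfsg.Agent.Helper28.allLt_succ _ 71 (Cfsg.Agent.Helper28.allLt_succ _ 70 (Cfsg.Agent.Helper28.allLt_succ _ 69 (Cfsg.Agent.Helper28.allLt_succ _ 68 (Cfsg.Agent.Helper28.allLt_succ _ 67 (Cfsg.Agent.Helper28.allLt_succ _ 66 (Cfsg.Agent.Helper28.allLt_succ _ 65 (Cfsg.Agent.Helper28.allLt_succ _ 64 (Cfsg.Agent.Helper28.allLt_succ _ 63 (Cfsg.Agent.Helper28.allLt_succ _ 62 (Cfsg.Agent.Helper28.allLt_succ _ 61 (Cfsg.Agent.Helper28.allLt_succ _ 60 (Cfsg.Agent.Helper28.allLt_succ _ 59 (Cfsg.Agent.Helper28.allLt_succ _ 58 (Cfsg.Agent.Helper28.allLt_succ _ 57 (Cfsg.Agent.Helper28.allLt_succ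 _ 56 (Cfsg.Agent.Helper28.allLt_succ _ 55 (Cfsg.Agent.Helper28.allLt_succ _ 54 (Cfsg.Agent.Helper28.allLt_succ _ 53 (Cfsg.Agent.Helper28.allLt_succ _ 52 (Cfsg.Agent.Helper28.allLt_succ _ 51 (Cfsg.Agent.Helper28.allLt_succ _ 50 (Cfsg.Agent.Helper28.allLt_succ _ 49 (Cfsg.Agent.Helper28.allLt_succ _ 48 (Cfsg.Agent.Helper28.allLt_succ _ 47 (Cfsg.Agent.Helper28.allLt_succ _ 46 (Cfsg.Agent.Helper28.allLt_succ _ 45 (Cfsg.Agent.Helper28.allLt_succ _ 44 (Cfsg.Agent.Helper28.allLt_succ _ 43 (Cfsg.Agent.Helper28.allLt_succ _ 42 (Cfsg.Agent.Helper28.allLt_succ _ 41 (Cfsg.Agent.Helper28.allLt_succ _ 40 (Cfsg.Agent.Helper28.allLt_succ _ 39 (Cfsg.Agent.Helper28.allLt_succ _ 38 (Cfsg.Agent.Helper28.allLt_succ _ 37 (Cfsg.Agent.Helper28.allLt_succ _ 36 (Cfsg.Agent.Helper28.allLt_succ _ 35 (Cfsg.Agent.Helper28.allLt_succ _ 34 (Cfsg.Agent.Helper28.allLt_succ _ 33 (Cfsg.Agent.Helper28.allLt_succ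 _ 32 (Cfsg.Agent.Helper28.allLt_succ _ 31 (Cfsg.Agent.Helper28.allLt_succ _ 30 (Cfsg.Agent.Helper28.allLt_succ _ 29 (Cfsg.Agent.Helper28.allLt_succ _ 28 (Cfsg.Agent.Helper28.allLt_succ _ 27 (Cfsg.Agent.Helper28.allLt_succ _ 26 (Cfsg.Agent.Helper28.allLt_succ _ 25 (Cfsg.Agent.Helper28.allLt_succ _ 24 (Cfsg.Agent.Helper28.allLt_succ _ 23 (Cfsg.Agent.Helper28.allLt_succ _ 22 (Cfsg.Agent.Helper28.allLt_succ _ 21 (Cfsg.Agent.Helper28.allLt_succ _ 20 (Cfsg.Agent.Helper28.allLt_succ _ 19 (Cfsg.Agent.Helper28.allLt_succ _ 18 (Cfsg.Agent.Helper28.allLt_succ _ 17 (Cfsg.Agent.Helper28.allLt_succ _ 16 (Cfsg.Agent.Helper28.allLt_succ _ 15 (Cfsg.Agent.Helper28.allLt_succ _ 14 (Cfsg.Agent.Helper28.allLt_succ _ 13 (Cfsg.Agent.Helper28.allLt_succ _ 12 (Cfsg.Agent.Helper28.allLt_succ _ 11 (Cfsg.Agent.Helper28.allLt_succ _ 10 (Cfsg.Agent.Helper28.allLt_succ _ 9 (Cfsg.Agent.Helper28.allLt_succ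 _ 8 (Cfsg.Agent.Helper28.allLt_succ _ 7 (Cfsg.Agent.Helper28.allLt_succ _ 6 (Cfsg.Agent.Helper28.allLt_succ _ 5 (Cfsg.Agent.Helper28.allLt_succ _ 4 (Cfsg.Agent.Helper28.allLt_succ _ 3 (Cfsg.Agent.Helper28.allLt_succ _ 2 (Cfsg.Agent.Helper28.allLt_succ _ 1 (Cfsg.Agent.Helper28.allLt_succ _ 0 (Cfsg.Agent.Helper28.allLt_zero _) rows_0) rows_1) rows_2) rows_3) rows_4) rows_5) rows_6) rows_7) rows_8) rows_9) rows_10) rows_11) rows_12) rows_13) rows_14) rows_15) rows_16) rows_17) rows_18) rows_19) rows_20) rows_21) rows_22) rows_23) rows_24) rows_25) rows_26) rows_27) rows_28) rows_29) rows_30) rows_31) rows_32) rows_33) rows_34) rows_35) rows_36) rows_37) rows_38) rows_39) rows_40) rows_41) rows_42) rows_43) rows_44) rows_45) rows_46) rows_47) rows_48) rows_49) rows_50) rows_51) rows_52) rows_53) rows_54) rows_55) rows_56) rows_57) rows_58) rows_59) rows_60) rows_61)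 rows_62) rows_63) rows_64) rows_65) rows_66) rows_67) rows_68) rows_69) rows_70) rows_71) rows_72) rows_73) rows_74) rows_75) rows_76) rows_77) rows_78) rows_79) rows_80) rows_81) rows_82) rows_83) rows_84) rows_85) rows_86) rows_87) rows_88) rows_89) rows_90) rows_91) rows_92) rows_93) rows_94) rows_95) rows_96) rows_97) rows_98) rows_99) rows_100) rows_101) rows_102) rows_103) rows_104) rows_105) rows_106) rows_107) rows_108) rows_109) rows_110) rows_111) rows_112) rows_113) rows_114) rows_115) rows_116) rows_117) rows_118) rows_119) rows_120) rows_121) rows_122) rows_123) rows_124) rows_125) rows_126) rows_127) rows_128) rows_129) rows_130) rows_131) rows_132) rows_133) rows_134) rows_135) rows_136) rows_137) rows_138) rows_139) rows_140) rows_141) rows_142) rows_143) rows_144) rows_145) rows_146) rows_147) rows_148) rows_149) rows_150) rows_151) rows_152) rows_153)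 rows_154) rows_155) rows_156) rows_157) rows_158) rows_159) rows_160) rows_161) rows_162) rows_163) rows_164) rows_165) rows_166) rows_167) rows_168) rows_169) rows_170) rows_171) rows_172) rows_173) rows_174) rows_175) rows_176) rows_177) rows_178) rows_179) rows_180) rows_181) rows_182) rows_183) rows_184) rows_185) rows_186) rows_187) rows_188) rows_189) rows_190) rows_191) rows_192) rows_193) rows_194) rows_195) rows_196) rows_197) rows_198) rows_199) rows_200) rows_201) rows_202) rows_203) rows_204) rows_205) rows_206) rows_207) rows_208) rows_209) rows_210) rows_211) rows_212) rows_213) rows_214) rows_215) rows_216) rows_217) rows_218) rows_219) rows_220) rows_221) rows_222) rows_223) rows_224) rows_225) rows_226) rows_227) rows_228) rows_229) rows_230) rows_231) rows_232) rows_233) rows_234) rows_235) rows_236) rows_237) rows_238) rows_239) rows_240) rows_241)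 rows_242) rows_243) rows_244) rows_245) rows_246) rows_247) rows_248) rows_249) rows_250) rows_251) rows_252) rows_253) rows_254) rows_255) rows_256) rows_257) rows_258) rows_259) rows_260) rows_261) rows_262) rows_263) rows_264) rows_265) rows_266) rows_267) rows_268) rows_269) rows_270) rows_271) rows_272) rows_273) rows_274) rows_275) rows_276) rows_277) rows_278) rows_279) rows_280) rows_281) rows_282) rows_283) rows_284) rows_285) rows_286) rows_287) rows_288) rows_289) rows_290) rows_291) rows_292) rows_293) rows_294) rows_295) rows_296) rows_297) rows_298) rows_299) rows_300) rows_301) rows_302) rows_303) rows_304) rows_305) rows_306) rows_307) rows_308) rows_309) rows_310) rows_311) rows_312) rows_313) rows_314) rows_315) rows_316) rows_317) rows_318) rows_319) rows_320) rows_321) rows_322) rows_323) rows_324) rows_325) rows_326) rows_327) rows_328) rows_329)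 rows_330) rows_331) rows_332) rows_333) rows_334) rows_335) rows_336) rows_337) rows_338) rows_339) rows_340) rows_341) rows_342) rows_343) rows_344) rows_345) rows_346) rows_347) rows_348) rows_349) rows_350) rows_351) rows_352) rows_353) rows_354) rows_355) rows_356) rows_357) rows_358) rows_359) rows_360) rows_361) rows_362) rows_363) rows_364) rows_365) rows_366) rows_367) rows_368) rows_369) rows_370) rows_371) rows_372) rows_373) rows_374) rows_375) rows_376) rows_377) rows_378) rows_379) rows_380) rows_381) rows_382) rows_383) rows_384) rows_385) rows_386) rows_387) rows_388) rows_389) rows_390) rows_391) rows_392) rows_393) rows_394) rows_395) rows_396) rows_397) rows_398) rows_399) rows_400) rows_401) rows_402) rows_403) rows_404) rows_405) rows_406) rows_407) rows_408) rows_409) rows_410) rows_411) rows_412) rows_413) rows_414) rows_415) rows_416) rows_417)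 rows_418) rows_419) rows_420) rows_421) rows_422) rows_423) rows_424) rows_425) rows_426) rows_427) rows_428) rows_429) rows_430) rows_431) rows_432) rows_433) rows_434) rows_435) rows_436) rows_437) rows_438) rows_439) rows_440) rows_441) rows_442) rows_443) rows_444) rows_445) rows_446) rows_447) rows_448) rows_449) rows_450) rows_451) rows_452) rows_453) rows_454) rows_455) rows_456) rows_457) rows_458) rows_459) rows_460) rows_461) rows_462) rows_463) rows_464) rows_465) rows_466) rows_467) rows_468) rows_469) rows_470) rows_471) rows_472) rows_473) rows_474) rows_475) rows_476) rows_477) rows_478) rows_479) rows_480) rows_481) rows_482) rows_483) rows_484) rows_485) rows_486) rows_487) rows_488) rows_489) rows_490) rows_491) rows_492) rows_493) rows_494) rows_495) rows_496) rows_497) rows_498) rows_499) rows_500) rows_501) rows_502) rows_503) rows_504) rows_505)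 rows_506) rows_507) rows_508) rows_509) rows_510) rows_511) rows_512) rows_513) rows_514) rows_515) rows_516) rows_517) rows_518) rows_519) rows_520) rows_521) rows_522) rows_523) rows_524) rows_525) rows_526) rows_527) rows_528) rows_529) rows_530) rows_531) rows_532) rows_533) rows_534) rows_535) rows_536) rows_537) rows_538) rows_539) rows_540) rows_541) rows_542) rows_543) rows_544) rows_545) rows_546) rows_547) rows_548) rows_549) rows_550) rows_551) rows_552) rows_553) rows_554) rows_555) rows_556) rows_557) rows_558) rows_559) rows_560) rows_561) rows_562) rows_563) rows_564) rows_565) rows_566) rows_567) rows_568) rows_569) rows_570) rows_571) rows_572) rows_573) rows_574) rows_575) rows_576) rows_577) rows_578) rows_579) rows_580) rows_581) rows_582) rows_583) rows_584) rows_585) rows_586) rows_587) rows_588) rows_589) rows_590) rows_591) rows_592) rows_593)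 rows_594) rows_595) rows_596) rows_597) rows_598) rows_599) rows_600) rows_601) rows_602) rows_603) rows_604) rows_605) rows_606) rows_607) rows_608) rows_609) rows_610) rows_611) rows_612) rows_613) rows_614) rows_615) rows_616) rows_617) rows_618) rows_619) rows_620) rows_621) rows_622) rows_623) rows_624) rows_625) rows_626) rows_627) rows_628) rows_629) rows_630) rows_631) rows_632) rows_633) rows_634) rows_635) rows_636) rows_637) rows_638) rows_639) rows_640) rows_641) rows_642) rows_643) rows_644) rows_645) rows_646) rows_647) rows_648) rows_649) rows_650) rows_651) rows_652) rows_653) rows_654) rows_655) rows_656) rows_657) rows_658) rows_659) rows_660) rows_661) rows_662) rows_663) rows_664) rows_665) rows_666) rows_667) rows_668) rows_669) rows_670) rows_671) rows_672) rows_673) rows_674) rows_675) rows_676) rows_677) rows_678) rows_679) rows_680) rows_681)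 rows_682) rows_683) rows_684) rows_685) rows_686) rows_687) rows_688) rows_689) rows_690) rows_691) rows_692)

set_option maxRecDepth 100000 in
theorem fin_all : ∀ i, i < 306936 → Cfsg.Agent.Helper28.Gn.finPt D 306936 lv T ftp ftc i = true :=
  Cfsg.Agent.Helper28.pts_of_chunks _ 306936 2048 150 (by decide) (by decide)
    (Cfsg.Agent.Helper28.allLt_succ _ 149 (Cfsg.Agent.Helper28.allLt_succ _ 148 (Cfsg.Agent.Helper28.allLt_succ _ 147 (Cfsg.Agent.Helper28.allLt_succ _ 146 (Cfsg.Agent.Helper28.allLt_succ _ 145 (Cfsg.Agent.Helper28.allLt_succ _ 144 (Cfsg.Agent.Helper28.allLt_succ _ 143 (Cfsg.Agent.Helper28.allLt_succ _ 142 (Cfsg.Agent.Helper28.allLt_succ _ 141 (Cfsg.Agent.Helper28.allLt_succ _ 140 (Cfsg.Agent.Helper28.allLt_succ _ 139 (Cfsg.Agent.Helper28.allLt_succ _ 138 (Cfsg.Agent.Helper28.allLt_succ _ 137 (Cfsg.Agent.Helper28.allLt_succ _ 136 (Cfsg.Agent.Helper28.allLt_succ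 _ 135 (Cfsg.Agent.Helper28.allLt_succ _ 134 (Cfsg.Agent.Helper28.allLt_succ _ 133 (Cfsg.Agent.Helper28.allLt_succ _ 132 (Cfsg.Agent.Helper28.allLt_succ _ 131 (Cfsg.Agent.Helper28.allLt_succ _ 130 (Cfsg.Agent.Helper28.allLt_succ _ 129 (Cfsg.Agent.Helper28.allLt_succ _ 128 (Cfsg.Agent.Helper28.allLt_succ _ 127 (Cfsg.Agent.Helper28.allLt_succ _ 126 (Cfsg.Agent.Helper28.allLt_succ _ 125 (Cfsg.Agent.Helper28.allLt_succ _ 124 (Cfsg.Agent.Helper28.allLt_succ _ 123 (Cfsg.Agent.Helper28.allLt_succ _ 122 (Cfsg.Agent.Helper28.allLt_succ _ 121 (Cfsg.Agent.Helper28.allLt_succ _ 120 (Cfsg.Agent.Helper28.allLt_succ _ 119 (Cfsg.Agent.Helper28.allLt_succ _ 118 (Cfsg.Agent.Helper28.allLt_succ _ 117 (Cfsg.Agent.Helper28.allLt_succ _ 116 (Cfsg.Agent.Helper28.allLt_succ _ 115 (Cfsg.Agent.Helper28.allLt_succ _ 114 (Cfsg.Agent.Helper28.allLt_succ _ 113 (Cfsg.Agent.Helper28.allLt_succ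 _ 112 (Cfsg.Agent.Helper28.allLt_succ _ 111 (Cfsg.Agent.Helper28.allLt_succ _ 110 (Cfsg.Agent.Helper28.allLt_succ _ 109 (Cfsg.Agent.Helper28.allLt_succ _ 108 (Cfsg.Agent.Helper28.allLt_succ _ 107 (Cfsg.Agent.Helper28.allLt_succ _ 106 (Cfsg.Agent.Helper28.allLt_succ _ 105 (Cfsg.Agent.Helper28.allLt_succ _ 104 (Cfsg.Agent.Helper28.allLt_succ _ 103 (Cfsg.Agent.Helper28.allLt_succ _ 102 (Cfsg.Agent.Helper28.allLt_succ _ 101 (Cfsg.Agent.Helper28.allLt_succ _ 100 (Cfsg.Agent.Helper28.allLt_succ _ 99 (Cfsg.Agent.Helper28.allLt_succ _ 98 (Cfsg.Agent.Helper28.allLt_succ _ 97 (Cfsg.Agent.Helper28.allLt_succ _ 96 (Cfsg.Agent.Helper28.allLt_succ _ 95 (Cfsg.Agent.Helper28.allLt_succ _ 94 (Cfsg.Agent.Helper28.allLt_succ _ 93 (Cfsg.Agent.Helper28.allLt_succ _ 92 (Cfsg.Agent.Helper28.allLt_succ _ 91 (Cfsg.Agent.Helper28.allLt_succ _ 90 (Cfsg.Agent.Helper28.allLt_succ _ 89 (Cfsg.Agent.Helper28.allLt_succ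 _ 88 (Cfsg.Agent.Helper28.allLt_succ _ 87 (Cfsg.Agent.Helper28.allLt_succ _ 86 (Cfsg.Agent.Helper28.allLt_succ _ 85 (Cfsg.Agent.Helper28.allLt_succ _ 84 (Cfsg.Agent.Helper28.allLt_succ _ 83 (Cfsg.Agent.Helper28.allLt_succ _ 82 (Cfsg.Agent.Helper28.allLt_succ _ 81 (Cfsg.Agent.Helper28.allLt_succ _ 80 (Cfsg.Agent.Helper28.allLt_succ _ 79 (Cfsg.Agent.Helper28.allLt_succ _ 78 (Cfsg.Agent.Helper28.allLt_succ _ 77 (Cfsg.Agent.Helper28.allLt_succ _ 76 (Cfsg.Agent.Helper28.allLt_succ _ 75 (Cfsg.Agent.Helper28.allLt_succ _ 74 (Cfsg.Agent.Helper28.allLt_succ _ 73 (Cfsg.Agent.Helper28.allLt_succ _ 72 (Cfsg.Agent.Helper28.allLt_succ _ 71 (Cfsg.Agent.Helper28.allLt_succ _ 70 (Cfsg.Agent.Helper28.allLt_succ _ 69 (Cfsg.Agent.Helper28.allLt_succ _ 68 (Cfsg.Agent.Helper28.allLt_succ _ 67 (Cfsg.Agent.Helper28.allLt_succ _ 66 (Cfsg.Agent.Helper28.allLt_succ _ 65 (Cfsg.Agent.Helper28.allLt_succ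 _ 64 (Cfsg.Agent.Helper28.allLt_succ _ 63 (Cfsg.Agent.Helper28.allLt_succ _ 62 (Cfsg.Agent.Helper28.allLt_succ _ 61 (Cfsg.Agent.Helper28.allLt_succ _ 60 (Cfsg.Agent.Helper28.allLt_succ _ 59 (Cfsg.Agent.Helper28.allLt_succ _ 58 (Cfsg.Agent.Helper28.allLt_succ _ 57 (Cfsg.Agent.Helper28.allLt_succ _ 56 (Cfsg.Agent.Helper28.allLt_succ _ 55 (Cfsg.Agent.Helper28.allLt_succ _ 54 (Cfsg.Agent.Helper28.allLt_succ _ 53 (Cfsg.Agent.Helper28.allLt_succ _ 52 (Cfsg.Agent.Helper28.allLt_succ _ 51 (Cfsg.Agent.Helper28.allLt_succ _ 50 (Cfsg.Agent.Helper28.allLt_succ _ 49 (Cfsg.Agent.Helper28.allLt_succ _ 48 (Cfsg.Agent.Helper28.allLt_succ _ 47 (Cfsg.Agent.Helper28.allLt_succ _ 46 (Cfsg.Agent.Helper28.allLt_succ _ 45 (Cfsg.Agent.Helper28.allLt_succ _ 44 (Cfsg.Agent.Helper28.allLt_succ _ 43 (Cfsg.Agent.Helper28.allLt_succ _ 42 (Cfsg.Agent.Helper28.allLt_succ _ 41 (Cfsg.Agent.Helper28.allLt_succ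 _ 40 (Cfsg.Agent.Helper28.allLt_succ _ 39 (Cfsg.Agent.Helper28.allLt_succ _ 38 (Cfsg.Agent.Helper28.allLt_succ _ 37 (Cfsg.Agent.Helper28.allLt_succ _ 36 (Cfsg.Agent.Helper28.allLt_succ _ 35 (Cfsg.Agent.Helper28.allLt_succ _ 34 (Cfsg.Agent.Helper28.allLt_succ _ 33 (Cfsg.Agent.Helper28.allLt_succ _ 32 (Cfsg.Agent.Helper28.allLt_succ _ 31 (Cfsg.Agent.Helper28.allLt_succ _ 30 (Cfsg.Agent.Helper28.allLt_succ _ 29 (Cfsg.Agent.Helper28.allLt_succ _ 28 (Cfsg.Agent.Helper28.allLt_succ _ 27 (Cfsg.Agent.Helper28.allLt_succ _ 26 (Cfsg.Agent.Helper28.allLt_succ _ 25 (Cfsg.Agent.Helper28.allLt_succ _ 24 (Cfsg.Agent.Helper28.allLt_succ _ 23 (Cfsg.Agent.Helper28.allLt_succ _ 22 (Cfsg.Agent.Helper28.allLt_succ _ 21 (Cfsg.Agent.Helper28.allLt_succ _ 20 (Cfsg.Agent.Helper28.allLt_succ _ 19 (Cfsg.Agent.Helper28.allLt_succ _ 18 (Cfsg.Agent.Helper28.allLt_succ _ 17 (Cfsg.Agent.Helper28.allLt_succ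 _ 16 (Cfsg.Agent.Helper28.allLt_succ _ 15 (Cfsg.Agent.Helper28.allLt_succ _ 14 (Cfsg.Agent.Helper28.allLt_succ _ 13 (Cfsg.Agent.Helper28.allLt_succ _ 12 (Cfsg.Agent.Helper28.allLt_succ _ 11 (Cfsg.Agent.Helper28.allLt_succ _ 10 (Cfsg.Agent.Helper28.allLt_succ _ 9 (Cfsg.Agent.Helper28.allLt_succ _ 8 (Cfsg.Agent.Helper28.allLt_succ _ 7 (Cfsg.Agent.Helper28.allLt_succ _ 6 (Cfsg.Agent.Helper28.allLt_succ _ 5 (Cfsg.Agent.Helper28.allLt_succ _ 4 (Cfsg.Agent.Helper28.allLt_succ _ 3 (Cfsg.Agent.Helper28.allLt_succ _ 2 (Cfsg.Agent.Helper28.allLt_succ _ 1 (Cfsg.Agent.Helper28.allLt_succ _ 0 (Cfsg.Agent.Helper28.allLt_zero _) fin_0) fin_1) fin_2) fin_3) fin_4) fin_5) fin_6) fin_7) fin_8) fin_9) fin_10) fin_11) fin_12) fin_13) fin_14) fin_15) fin_16) fin_17) fin_18) fin_19) fin_20) fin_21) fin_22) fin_23) fin_24) fin_25) fin_26) fin_27) fin_28) fin_29) fin_30) fin_31) fin_32)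 fin_33) fin_34) fin_35) fin_36) fin_37) fin_38) fin_39) fin_40) fin_41) fin_42) fin_43) fin_44) fin_45) fin_46) fin_47) fin_48) fin_49) fin_50) fin_51) fin_52) fin_53) fin_54) fin_55) fin_56) fin_57) fin_58) fin_59) fin_60) fin_61) fin_62) fin_63) fin_64) fin_65) fin_66) fin_67) fin_68) fin_69) fin_70) fin_71) fin_72) fin_73) fin_74) fin_75) fin_76) fin_77) fin_78) fin_79) fin_80) fin_81) fin_82) fin_83) fin_84) fin_85) fin_86) fin_87) fin_88) fin_89) fin_90) fin_91) fin_92) fin_93) fin_94) fin_95) fin_96) fin_97) fin_98) fin_99) fin_100) fin_101) fin_102) fin_103) fin_104) fin_105) fin_106) fin_107) fin_108) fin_109) fin_110) fin_111) fin_112) fin_113) fin_114) fin_115) fin_116) fin_117) fin_118) fin_119) fin_120) fin_121) fin_122) fin_123) fin_124) fin_125) fin_126) fin_127) fin_128) fin_129) fin_130) fin_131) fin_132) fin_133) fin_134) fin_135) fin_136) fin_137)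 fin_138) fin_139) fin_140) fin_141) fin_142) fin_143) fin_144) fin_145) fin_146) fin_147) fin_148) fin_149)

set_option maxRecDepth 100000 in
theorem rel_all : ∀ i, i < 306936 → Cfsg.Agent.Helper28.Gn.relPtC lookT relC1 i = true :=
  Cfsg.Agent.Helper28.pts_of_chunks _ 306936 1024 300 (by decide) (by decide)
    (Cfsg.Agent.Helper28.allLt_succ _ 299 (Cfsg.Agent.Helper28.allLt_succ _ 298 (Cfsg.Agent.Helper28.allLt_succ _ 297 (Cfsg.Agent.Helper28.allLt_succ _ 296 (Cfsg.Agent.Helper28.allLt_succ _ 295 (Cfsg.Agent.Helper28.allLt_succ _ 294 (Cfsg.Agent.Helper28.allLt_succ _ 293 (Cfsg.Agent.Helper28.allLt_succ _ 292 (Cfsg.Agent.Helper28.allLt_succ _ 291 (Cfsg.Agent.Helper28.allLt_succ _ 290 (Cfsg.Agent.Helper28.allLt_succ _ 289 (Cfsg.Agent.Helper28.allLt_succ _ 288 (Cfsg.Agent.Helper28.allLt_succ _ 287 (Cfsg.Agent.Helper28.allLt_succ _ 286 (Cfsg.Agent.Helper28.allLt_succ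 _ 285 (Cfsg.Agent.Helper28.allLt_succ _ 284 (Cfsg.Agent.Helper28.allLt_succ _ 283 (Cfsg.Agent.Helper28.allLt_succ _ 282 (Cfsg.Agent.Helper28.allLt_succ _ 281 (Cfsg.Agent.Helper28.allLt_succ _ 280 (Cfsg.Agent.Helper28.allLt_succ _ 279 (Cfsg.Agent.Helper28.allLt_succ _ 278 (Cfsg.Agent.Helper28.allLt_succ _ 277 (Cfsg.Agent.Helper28.allLt_succ _ 276 (Cfsg.Agent.Helper28.allLt_succ _ 275 (Cfsg.Agent.Helper28.allLt_succ _ 274 (Cfsg.Agent.Helper28.allLt_succ _ 273 (Cfsg.Agent.Helper28.allLt_succ _ 272 (Cfsg.Agent.Helper28.allLt_succ _ 271 (Cfsg.Agent.Helper28.allLt_succ _ 270 (Cfsg.Agent.Helper28.allLt_succ _ 269 (Cfsg.Agent.Helper28.allLt_succ _ 268 (Cfsg.Agent.Helper28.allLt_succ _ 267 (Cfsg.Agent.Helper28.allLt_succ _ 266 (Cfsg.Agent.Helper28.allLt_succ _ 265 (Cfsg.Agent.Helper28.allLt_succ _ 264 (Cfsg.Agent.Helper28.allLt_succ _ 263 (Cfsg.Agent.Helper28.allLt_succ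 _ 262 (Cfsg.Agent.Helper28.allLt_succ _ 261 (Cfsg.Agent.Helper28.allLt_succ _ 260 (Cfsg.Agent.Helper28.allLt_succ _ 259 (Cfsg.Agent.Helper28.allLt_succ _ 258 (Cfsg.Agent.Helper28.allLt_succ _ 257 (Cfsg.Agent.Helper28.allLt_succ _ 256 (Cfsg.Agent.Helper28.allLt_succ _ 255 (Cfsg.Agent.Helper28.allLt_succ _ 254 (Cfsg.Agent.Helper28.allLt_succ _ 253 (Cfsg.Agent.Helper28.allLt_succ _ 252 (Cfsg.Agent.Helper28.allLt_succ _ 251 (Cfsg.Agent.Helper28.allLt_succ _ 250 (Cfsg.Agent.Helper28.allLt_succ _ 249 (Cfsg.Agent.Helper28.allLt_succ _ 248 (Cfsg.Agent.Helper28.allLt_succ _ 247 (Cfsg.Agent.Helper28.allLt_succ _ 246 (Cfsg.Agent.Helper28.allLt_succ _ 245 (Cfsg.Agent.Helper28.allLt_succ _ 244 (Cfsg.Agent.Helper28.allLt_succ _ 243 (Cfsg.Agent.Helper28.allLt_succ _ 242 (Cfsg.Agent.Helper28.allLt_succ _ 241 (Cfsg.Agent.Helper28.allLt_succ _ 240 (Cfsg.Agent.Helper28.allLt_succ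 _ 239 (Cfsg.Agent.Helper28.allLt_succ _ 238 (Cfsg.Agent.Helper28.allLt_succ _ 237 (Cfsg.Agent.Helper28.allLt_succ _ 236 (Cfsg.Agent.Helper28.allLt_succ _ 235 (Cfsg.Agent.Helper28.allLt_succ _ 234 (Cfsg.Agent.Helper28.allLt_succ _ 233 (Cfsg.Agent.Helper28.allLt_succ _ 232 (Cfsg.Agent.Helper28.allLt_succ _ 231 (Cfsg.Agent.Helper28.allLt_succ _ 230 (Cfsg.Agent.Helper28.allLt_succ _ 229 (Cfsg.Agent.Helper28.allLt_succ _ 228 (Cfsg.Agent.Helper28.allLt_succ _ 227 (Cfsg.Agent.Helper28.allLt_succ _ 226 (Cfsg.Agent.Helper28.allLt_succ _ 225 (Cfsg.Agent.Helper28.allLt_succ _ 224 (Cfsg.Agent.Helper28.allLt_succ _ 223 (Cfsg.Agent.Helper28.allLt_succ _ 222 (Cfsg.Agent.Helper28.allLt_succ _ 221 (Cfsg.Agent.Helper28.allLt_succ _ 220 (Cfsg.Agent.Helper28.allLt_succ _ 219 (Cfsg.Agent.Helper28.allLt_succ _ 218 (Cfsg.Agent.Helper28.allLt_succ _ 217 (Cfsg.Agent.Helper28.allLt_succ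 _ 216 (Cfsg.Agent.Helper28.allLt_succ _ 215 (Cfsg.Agent.Helper28.allLt_succ _ 214 (Cfsg.Agent.Helper28.allLt_succ _ 213 (Cfsg.Agent.Helper28.allLt_succ _ 212 (Cfsg.Agent.Helper28.allLt_succ _ 211 (Cfsg.Agent.Helper28.allLt_succ _ 210 (Cfsg.Agent.Helper28.allLt_succ _ 209 (Cfsg.Agent.Helper28.allLt_succ _ 208 (Cfsg.Agent.Helper28.allLt_succ _ 207 (Cfsg.Agent.Helper28.allLt_succ _ 206 (Cfsg.Agent.Helper28.allLt_succ _ 205 (Cfsg.Agent.Helper28.allLt_succ _ 204 (Cfsg.Agent.Helper28.allLt_succ _ 203 (Cfsg.Agent.Helper28.allLt_succ _ 202 (Cfsg.Agent.Helper28.allLt_succ _ 201 (Cfsg.Agent.Helper28.allLt_succ _ 200 (Cfsg.Agent.Helper28.allLt_succ _ 199 (Cfsg.Agent.Helper28.allLt_succ _ 198 (Cfsg.Agent.Helper28.allLt_succ _ 197 (Cfsg.Agent.Helper28.allLt_succ _ 196 (Cfsg.Agent.Helper28.allLt_succ _ 195 (Cfsg.Agent.Helper28.allLt_succ _ 194 (Cfsg.Agent.Helper28.allLt_succ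 _ 193 (Cfsg.Agent.Helper28.allLt_succ _ 192 (Cfsg.Agent.Helper28.allLt_succ _ 191 (Cfsg.Agent.Helper28.allLt_succ _ 190 (Cfsg.Agent.Helper28.allLt_succ _ 189 (Cfsg.Agent.Helper28.allLt_succ _ 188 (Cfsg.Agent.Helper28.allLt_succ _ 187 (Cfsg.Agent.Helper28.allLt_succ _ 186 (Cfsg.Agent.Helper28.allLt_succ _ 185 (Cfsg.Agent.Helper28.allLt_succ _ 184 (Cfsg.Agent.Helper28.allLt_succ _ 183 (Cfsg.Agent.Helper28.allLt_succ _ 182 (Cfsg.Agent.Helper28.allLt_succ _ 181 (Cfsg.Agent.Helper28.allLt_succ _ 180 (Cfsg.Agent.Helper28.allLt_succ _ 179 (Cfsg.Agent.Helper28.allLt_succ _ 178 (Cfsg.Agent.Helper28.allLt_succ _ 177 (Cfsg.Agent.Helper28.allLt_succ _ 176 (Cfsg.Agent.Helper28.allLt_succ _ 175 (Cfsg.Agent.Helper28.allLt_succ _ 174 (Cfsg.Agent.Helper28.allLt_succ _ 173 (Cfsg.Agent.Helper28.allLt_succ _ 172 (Cfsg.Agent.Helper28.allLt_succ _ 171 (Cfsg.Agent.Helper28.allLt_succ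 _ 170 (Cfsg.Agent.Helper28.allLt_succ _ 169 (Cfsg.Agent.Helper28.allLt_succ _ 168 (Cfsg.Agent.Helper28.allLt_succ _ 167 (Cfsg.Agent.Helper28.allLt_succ _ 166 (Cfsg.Agent.Helper28.allLt_succ _ 165 (Cfsg.Agent.Helper28.allLt_succ _ 164 (Cfsg.Agent.Helper28.allLt_succ _ 163 (Cfsg.Agent.Helper28.allLt_succ _ 162 (Cfsg.Agent.Helper28.allLt_succ _ 161 (Cfsg.Agent.Helper28.allLt_succ _ 160 (Cfsg.Agent.Helper28.allLt_succ _ 159 (Cfsg.Agent.Helper28.allLt_succ _ 158 (Cfsg.Agent.Helper28.allLt_succ _ 157 (Cfsg.Agent.Helper28.allLt_succ _ 156 (Cfsg.Agent.Helper28.allLt_succ _ 155 (Cfsg.Agent.Helper28.allLt_succ _ 154 (Cfsg.Agent.Helper28.allLt_succ _ 153 (Cfsg.Agent.Helper28.allLt_succ _ 152 (Cfsg.Agent.Helper28.allLt_succ _ 151 (Cfsg.Agent.Helper28.allLt_succ _ 150 (Cfsg.Agent.Helper28.allLt_succ _ 149 (Cfsg.Agent.Helper28.allLt_succ _ 148 (Cfsg.Agent.Helper28.allLt_succ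 _ 147 (Cfsg.Agent.Helper28.allLt_succ _ 146 (Cfsg.Agent.Helper28.allLt_succ _ 145 (Cfsg.Agent.Helper28.allLt_succ _ 144 (Cfsg.Agent.Helper28.allLt_succ _ 143 (Cfsg.Agent.Helper28.allLt_succ _ 142 (Cfsg.Agent.Helper28.allLt_succ _ 141 (Cfsg.Agent.Helper28.allLt_succ _ 140 (Cfsg.Agent.Helper28.allLt_succ _ 139 (Cfsg.Agent.Helper28.allLt_succ _ 138 (Cfsg.Agent.Helper28.allLt_succ _ 137 (Cfsg.Agent.Helper28.allLt_succ _ 136 (Cfsg.Agent.Helper28.allLt_succ _ 135 (Cfsg.Agent.Helper28.allLt_succ _ 134 (Cfsg.Agent.Helper28.allLt_succ _ 133 (Cfsg.Agent.Helper28.allLt_succ _ 132 (Cfsg.Agent.Helper28.allLt_succ _ 131 (Cfsg.Agent.Helper28.allLt_succ _ 130 (Cfsg.Agent.Helper28.allLt_succ _ 129 (Cfsg.Agent.Helper28.allLt_succ _ 128 (Cfsg.Agent.Helper28.allLt_succ _ 127 (Cfsg.Agent.Helper28.allLt_succ _ 126 (Cfsg.Agent.Helper28.allLt_succ _ 125 (Cfsg.Agent.Helper28.allLt_succ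 _ 124 (Cfsg.Agent.Helper28.allLt_succ _ 123 (Cfsg.Agent.Helper28.allLt_succ _ 122 (Cfsg.Agent.Helper28.allLt_succ _ 121 (Cfsg.Agent.Helper28.allLt_succ _ 120 (Cfsg.Agent.Helper28.allLt_succ _ 119 (Cfsg.Agent.Helper28.allLt_succ _ 118 (Cfsg.Agent.Helper28.allLt_succ _ 117 (Cfsg.Agent.Helper28.allLt_succ _ 116 (Cfsg.Agent.Helper28.allLt_succ _ 115 (Cfsg.Agent.Helper28.allLt_succ _ 114 (Cfsg.Agent.Helper28.allLt_succ _ 113 (Cfsg.Agent.Helper28.allLt_succ _ 112 (Cfsg.Agent.Helper28.allLt_succ _ 111 (Cfsg.Agent.Helper28.allLt_succ _ 110 (Cfsg.Agent.Helper28.allLt_succ _ 109 (Cfsg.Agent.Helper28.allLt_succ _ 108 (Cfsg.Agent.Helper28.allLt_succ _ 107 (Cfsg.Agent.Helper28.allLt_succ _ 106 (Cfsg.Agent.Helper28.allLt_succ _ 105 (Cfsg.Agent.Helper28.allLt_succ _ 104 (Cfsg.Agent.Helper28.allLt_succ _ 103 (Cfsg.Agent.Helper28.allLt_succ _ 102 (Cfsg.Agent.Helper28.allLt_succ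 _ 101 (Cfsg.Agent.Helper28.allLt_succ _ 100 (Cfsg.Agent.Helper28.allLt_succ _ 99 (Cfsg.Agent.Helper28.allLt_succ _ 98 (Cfsg.Agent.Helper28.allLt_succ _ 97 (Cfsg.Agent.Helper28.allLt_succ _ 96 (Cfsg.Agent.Helper28.allLt_succ _ 95 (Cfsg.Agent.Helper28.allLt_succ _ 94 (Cfsg.Agent.Helper28.allLt_succ _ 93 (Cfsg.Agent.Helper28.allLt_succ _ 92 (Cfsg.Agent.Helper28.allLt_succ _ 91 (Cfsg.Agent.Helper28.allLt_succ _ 90 (Cfsg.Agent.Helper28.allLt_succ _ 89 (Cfsg.Agent.Helper28.allLt_succ _ 88 (Cfsg.Agent.Helper28.allLt_succ _ 87 (Cfsg.Agent.Helper28.allLt_succ _ 86 (Cfsg.Agent.Helper28.allLt_succ _ 85 (Cfsg.Agent.Helper28.allLt_succ _ 84 (Cfsg.Agent.Helper28.allLt_succ _ 83 (Cfsg.Agent.Helper28.allLt_succ _ 82 (Cfsg.Agent.Helper28.allLt_succ _ 81 (Cfsg.Agent.Helper28.allLt_succ _ 80 (Cfsg.Agent.Helper28.allLt_succ _ 79 (Cfsg.Agent.Helper28.allLt_succ _ 78 (Cfsg.Agent.Helper28.allLt_succ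 _ 77 (Cfsg.Agent.Helper28.allLt_succ _ 76 (Cfsg.Agent.Helper28.allLt_succ _ 75 (Cfsg.Agent.Helper28.allLt_succ _ 74 (Cfsg.Agent.Helper28.allLt_succ _ 73 (Cfsg.Agent.Helper28.allLt_succ _ 72 (Cfsg.Agent.Helper28.allLt_succ _ 71 (Cfsg.Agent.Helper28.allLt_succ _ 70 (Cfsg.Agent.Helper28.allLt_succ _ 69 (Cfsg.Agent.Helper28.allLt_succ _ 68 (Cfsg.Agent.Helper28.allLt_succ _ 67 (Cfsg.Agent.Helper28.allLt_succ _ 66 (Cfsg.Agent.Helper28.allLt_succ _ 65 (Cfsg.Agent.Helper28.allLt_succ _ 64 (Cfsg.Agent.Helper28.allLt_succ _ 63 (Cfsg.Agent.Helper28.allLt_succ _ 62 (Cfsg.Agent.Helper28.allLt_succ _ 61 (Cfsg.Agent.Helper28.allLt_succ _ 60 (Cfsg.Agent.Helper28.allLt_succ _ 59 (Cfsg.Agent.Helper28.allLt_succ _ 58 (Cfsg.Agent.Helper28.allLt_succ _ 57 (Cfsg.Agent.Helper28.allLt_succ _ 56 (Cfsg.Agent.Helper28.allLt_succ _ 55 (Cfsg.Agent.Helper28.allLt_succ _ 54 (Cfsg.Agent.Helper28.allLt_succ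 _ 53 (Cfsg.Agent.Helper28.allLt_succ _ 52 (Cfsg.Agent.Helper28.allLt_succ _ 51 (Cfsg.Agent.Helper28.allLt_succ _ 50 (Cfsg.Agent.Helper28.allLt_succ _ 49 (Cfsg.Agent.Helper28.allLt_succ _ 48 (Cfsg.Agent.Helper28.allLt_succ _ 47 (Cfsg.Agent.Helper28.allLt_succ _ 46 (Cfsg.Agent.Helper28.allLt_succ _ 45 (Cfsg.Agent.Helper28.allLt_succ _ 44 (Cfsg.Agent.Helper28.allLt_succ _ 43 (Cfsg.Agent.Helper28.allLt_succ _ 42 (Cfsg.Agent.Helper28.allLt_succ _ 41 (Cfsg.Agent.Helper28.allLt_succ _ 40 (Cfsg.Agent.Helper28.allLt_succ _ 39 (Cfsg.Agent.Helper28.allLt_succ _ 38 (Cfsg.Agent.Helper28.allLt_succ _ 37 (Cfsg.Agent.Helper28.allLt_succ _ 36 (Cfsg.Agent.Helper28.allLt_succ _ 35 (Cfsg.Agent.Helper28.allLt_succ _ 34 (Cfsg.Agent.Helper28.allLt_succ _ 33 (Cfsg.Agent.Helper28.allLt_succ _ 32 (Cfsg.Agent.Helper28.allLt_succ _ 31 (Cfsg.Agent.Helper28.allLt_succ _ 30 (Cfsg.Agent.Helper28.allLt_succ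 _ 29 (Cfsg.Agent.Helper28.allLt_succ _ 28 (Cfsg.Agent.Helper28.allLt_succ _ 27 (Cfsg.Agent.Helper28.allLt_succ _ 26 (Cfsg.Agent.Helper28.allLt_succ _ 25 (Cfsg.Agent.Helper28.allLt_succ _ 24 (Cfsg.Agent.Helper28.allLt_succ _ 23 (Cfsg.Agent.Helper28.allLt_succ _ 22 (Cfsg.Agent.Helper28.allLt_succ _ 21 (Cfsg.Agent.Helper28.allLt_succ _ 20 (Cfsg.Agent.Helper28.allLt_succ _ 19 (Cfsg.Agent.Helper28.allLt_succ _ 18 (Cfsg.Agent.Helper28.allLt_succ _ 17 (Cfsg.Agent.Helper28.allLt_succ _ 16 (Cfsg.Agent.Helper28.allLt_succ _ 15 (Cfsg.Agent.Helper28.allLt_succ _ 14 (Cfsg.Agent.Helper28.allLt_succ _ 13 (Cfsg.Agent.Helper28.allLt_succ _ 12 (Cfsg.Agent.Helper28.allLt_succ _ 11 (Cfsg.Agent.Helper28.allLt_succ _ 10 (Cfsg.Agent.Helper28.allLt_succ _ 9 (Cfsg.Agent.Helper28.allLt_succ _ 8 (Cfsg.Agent.Helper28.allLt_succ _ 7 (Cfsg.Agent.Helper28.allLt_succ _ 6 (Cfsg.Agent.Helper28.allLt_succ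 _ 5 (Cfsg.Agent.Helper28.allLt_succ _ 4 (Cfsg.Agent.Helper28.allLt_succ _ 3 (Cfsg.Agent.Helper28.allLt_succ _ 2 (Cfsg.Agent.Helper28.allLt_succ _ 1 (Cfsg.Agent.Helper28.allLt_succ _ 0 (Cfsg.Agent.Helper28.allLt_zero _) rel_0) rel_1) rel_2) rel_3) rel_4) rel_5) rel_6) rel_7) rel_8) rel_9) rel_10) rel_11) rel_12) rel_13) rel_14) rel_15) rel_16) rel_17) rel_18) rel_19) rel_20) rel_21) rel_22) rel_23) rel_24) rel_25) rel_26) rel_27) rel_28) rel_29) rel_30) rel_31) rel_32) rel_33) rel_34) rel_35) rel_36) rel_37) rel_38) rel_39) rel_40) rel_41) rel_42) rel_43) rel_44) rel_45) rel_46) rel_47) rel_48) rel_49) rel_50) rel_51) rel_52) rel_53) rel_54) rel_55) rel_56) rel_57) rel_58) rel_59) rel_60) rel_61) rel_62) rel_63) rel_64) rel_65) rel_66) rel_67) rel_68) rel_69) rel_70) rel_71) rel_72) rel_73) rel_74) rel_75) rel_76) rel_77) rel_78) rel_79) rel_80) rel_81) rel_82)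 rel_83) rel_84) rel_85) rel_86) rel_87) rel_88) rel_89) rel_90) rel_91) rel_92) rel_93) rel_94) rel_95) rel_96) rel_97) rel_98) rel_99) rel_100) rel_101) rel_102) rel_103) rel_104) rel_105) rel_106) rel_107) rel_108) rel_109) rel_110) rel_111) rel_112) rel_113) rel_114) rel_115) rel_116) rel_117) rel_118) rel_119) rel_120) rel_121) rel_122) rel_123) rel_124) rel_125) rel_126) rel_127) rel_128) rel_129) rel_130) rel_131) rel_132) rel_133) rel_134) rel_135) rel_136) rel_137) rel_138) rel_139) rel_140) rel_141) rel_142) rel_143) rel_144) rel_145) rel_146) rel_147) rel_148) rel_149) rel_150) rel_151) rel_152) rel_153) rel_154) rel_155) rel_156) rel_157) rel_158) rel_159) rel_160) rel_161) rel_162) rel_163) rel_164) rel_165) rel_166) rel_167) rel_168) rel_169) rel_170) rel_171) rel_172) rel_173) rel_174) rel_175) rel_176) rel_177) rel_178) rel_179) rel_180) rel_181)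 rel_182) rel_183) rel_184) rel_185) rel_186) rel_187) rel_188) rel_189) rel_190) rel_191) rel_192) rel_193) rel_194) rel_195) rel_196) rel_197) rel_198) rel_199) rel_200) rel_201) rel_202) rel_203) rel_204) rel_205) rel_206) rel_207) rel_208) rel_209) rel_210) rel_211) rel_212) rel_213) rel_214) rel_215) rel_216) rel_217) rel_218) rel_219) rel_220) rel_221) rel_222) rel_223) rel_224) rel_225) rel_226) rel_227) rel_228) rel_229) rel_230) rel_231) rel_232) rel_233) rel_234) rel_235) rel_236) rel_237) rel_238) rel_239) rel_240) rel_241) rel_242) rel_243) rel_244) rel_245) rel_246) rel_247) rel_248) rel_249) rel_250) rel_251) rel_252) rel_253) rel_254) rel_255) rel_256) rel_257) rel_258) rel_259) rel_260) rel_261) rel_262) rel_263) rel_264) rel_265) rel_266) rel_267) rel_268) rel_269) rel_270) rel_271) rel_272) rel_273) rel_274) rel_275) rel_276) rel_277) rel_278)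 rel_279) rel_280) rel_281) rel_282) rel_283) rel_284) rel_285) rel_286) rel_287) rel_288) rel_289) rel_290) rel_291) rel_292) rel_293) rel_294) rel_295) rel_296) rel_297) rel_298) rel_299)

set_option maxRecDepth 100000 in
theorem pwa_all : ∀ i, i < 306936 → Cfsg.Agent.Helper28.Gn.powPt lookT lookW0 306936 preC0 repC0 9 i = true :=
  Cfsg.Agent.Helper28.pts_of_chunks _ 306936 4096 75 (by decide) (by decide)
    (Cfsg.Agent.Helper28.allLt_succ _ 74 (Cfsg.Agent.Helper28.allLt_succ _ 73 (Cfsg.Agent.Helper28.allLt_succ _ 72 (Cfsg.Agent.Helper28.allLt_succ _ 71 (Cfsg.Agent.Helper28.allLt_succ _ 70 (Cfsg.Agent.Helper28.allLt_succ _ 69 (Cfsg.Agent.Helper28.allLt_succ _ 68 (Cfsg.Agent.Helper28.allLt_succ _ 67 (Cfsg.Agent.Helper28.allLt_succ _ 66 (Cfsg.Agent.Helper28.allLt_succ _ 65 (Cfsg.Agent.Helper28.allLt_succ _ 64 (Cfsg.Agent.Helper28.allLt_succ _ 63 (Cfsg.Agent.Helper28.allLt_succ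 _ 62 (Cfsg.Agent.Helper28.allLt_succ _ 61 (Cfsg.Agent.Helper28.allLt_succ _ 60 (Cfsg.Agent.Helper28.allLt_succ _ 59 (Cfsg.Agent.Helper28.allLt_succ _ 58 (Cfsg.Agent.Helper28.allLt_succ _ 57 (Cfsg.Agent.Helper28.allLt_succ _ 56 (Cfsg.Agent.Helper28.allLt_succ _ 55 (Cfsg.Agent.Helper28.allLt_succ _ 54 (Cfsg.Agent.Helper28.allLt_succ _ 53 (Cfsg.Agent.Helper28.allLt_succ _ 52 (Cfsg.Agent.Helper28.allLt_succ _ 51 (Cfsg.Agent.Helper28.allLt_succ _ 50 (Cfsg.Agent.Helper28.allLt_succ _ 49 (Cfsg.Agent.Helper28.allLt_succ _ 48 (Cfsg.Agent.Helper28.allLt_succ _ 47 (Cfsg.Agent.Helper28.allLt_succ _ 46 (Cfsg.Agent.Helper28.allLt_succ _ 45 (Cfsg.Agent.Helper28.allLt_succ _ 44 (Cfsg.Agent.Helper28.allLt_succ _ 43 (Cfsg.Agent.Helper28.allLt_succ _ 42 (Cfsg.Agent.Helper28.allLt_succ _ 41 (Cfsg.Agent.Helper28.allLt_succ _ 40 (Cfsg.Agent.Helper28.allLt_succ _ 39 (Cfsg.Agent.Helper28.allLt_succ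 _ 38 (Cfsg.Agent.Helper28.allLt_succ _ 37 (Cfsg.Agent.Helper28.allLt_succ _ 36 (Cfsg.Agent.Helper28.allLt_succ _ 35 (Cfsg.Agent.Helper28.allLt_succ _ 34 (Cfsg.Agent.Helper28.allLt_succ _ 33 (Cfsg.Agent.Helper28.allLt_succ _ 32 (Cfsg.Agent.Helper28.allLt_succ _ 31 (Cfsg.Agent.Helper28.allLt_succ _ 30 (Cfsg.Agent.Helper28.allLt_succ _ 29 (Cfsg.Agent.Helper28.allLt_succ _ 28 (Cfsg.Agent.Helper28.allLt_succ _ 27 (Cfsg.Agent.Helper28.allLt_succ _ 26 (Cfsg.Agent.Helper28.allLt_succ _ 25 (Cfsg.Agent.Helper28.allLt_succ _ 24 (Cfsg.Agent.Helper28.allLt_succ _ 23 (Cfsg.Agent.Helper28.allLt_succ _ 22 (Cfsg.Agent.Helper28.allLt_succ _ 21 (Cfsg.Agent.Helper28.allLt_succ _ 20 (Cfsg.Agent.Helper28.allLt_succ _ 19 (Cfsg.Agent.Helper28.allLt_succ _ 18 (Cfsg.Agent.Helper28.allLt_succ _ 17 (Cfsg.Agent.Helper28.allLt_succ _ 16 (Cfsg.Agent.Helper28.allLt_succ _ 15 (Cfsg.Agent.Helper28.allLt_succ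 _ 14 (Cfsg.Agent.Helper28.allLt_succ _ 13 (Cfsg.Agent.Helper28.allLt_succ _ 12 (Cfsg.Agent.Helper28.allLt_succ _ 11 (Cfsg.Agent.Helper28.allLt_succ _ 10 (Cfsg.Agent.Helper28.allLt_succ _ 9 (Cfsg.Agent.Helper28.allLt_succ _ 8 (Cfsg.Agent.Helper28.allLt_succ _ 7 (Cfsg.Agent.Helper28.allLt_succ _ 6 (Cfsg.Agent.Helper28.allLt_succ _ 5 (Cfsg.Agent.Helper28.allLt_succ _ 4 (Cfsg.Agent.Helper28.allLt_succ _ 3 (Cfsg.Agent.Helper28.allLt_succ _ 2 (Cfsg.Agent.Helper28.allLt_succ _ 1 (Cfsg.Agent.Helper28.allLt_succ _ 0 (Cfsg.Agent.Helper28.allLt_zero _) pwa_0) pwa_1) pwa_2) pwa_3) pwa_4) pwa_5) pwa_6) pwa_7) pwa_8) pwa_9) pwa_10) pwa_11) pwa_12) pwa_13) pwa_14) pwa_15) pwa_16) pwa_17) pwa_18) pwa_19) pwa_20) pwa_21) pwa_22) pwa_23) pwa_24) pwa_25) pwa_26) pwa_27) pwa_28) pwa_29) pwa_30) pwa_31) pwa_32) pwa_33) pwa_34) pwa_35) pwa_36) pwa_37) pwa_38) pwa_39) pwa_40) pwa_41)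 pwa_42) pwa_43) pwa_44) pwa_45) pwa_46) pwa_47) pwa_48) pwa_49) pwa_50) pwa_51) pwa_52) pwa_53) pwa_54) pwa_55) pwa_56) pwa_57) pwa_58) pwa_59) pwa_60) pwa_61) pwa_62) pwa_63) pwa_64) pwa_65) pwa_66) pwa_67) pwa_68) pwa_69) pwa_70) pwa_71) pwa_72) pwa_73) pwa_74)

set_option maxRecDepth 100000 in
theorem pwb_all : ∀ i, i < 306936 → Cfsg.Agent.Helper28.Gn.powPt lookT lookW1 306936 preC1 repC1 17 i = true :=
  Cfsg.Agent.Helper28.pts_of_chunks _ 306936 4096 75 (by decide) (by decide)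
    (Cfsg.Agent.Helper28.allLt_succ _ 74 (Cfsg.Agent.Helper28.allLt_succ _ 73 (Cfsg.Agent.Helper28.allLt_succ _ 72 (Cfsg.Agent.Helper28.allLt_succ _ 71 (Cfsg.Agent.Helper28.allLt_succ _ 70 (Cfsg.Agent.Helper28.allLt_succ _ 69 (Cfsg.Agent.Helper28.allLt_succ _ 68 (Cfsg.Agent.Helper28.allLt_succ _ 67 (Cfsg.Agent.Helper28.allLt_succ _ 66 (Cfsg.Agent.Helper28.allLt_succ _ 65 (Cfsg.Agent.Helper28.allLt_succ _ 64 (Cfsg.Agent.Helper28.allLt_succ _ 63 (Cfsg.Agent.Helper28.allLt_succ _ 62 (Cfsg.Agent.Helper28.allLt_succ _ 61 (Cfsg.Agent.Helper28.allLt_succ _ 60 (Cfsg.Agent.Helper28.allLt_succ _ 59 (Cfsg.Agent.Helper28.allLt_succ _ 58 (Cfsg.Agent.Helper28.allLt_succ _ 57 (Cfsg.Agent.Helper28.allLt_succ _ 56 (Cfsg.Agent.Helper28.allLt_succ _ 55 (Cfsg.Agent.Helper28.allLt_succ _ 54 (Cfsg.Agent.Helper28.allLt_succ _ 53 (Cfsg.Agent.Helper28.allLt_succ _ 52 (Cfsg.Agent.Helper28.allLt_succ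 _ 51 (Cfsg.Agent.Helper28.allLt_succ _ 50 (Cfsg.Agent.Helper28.allLt_succ _ 49 (Cfsg.Agent.Helper28.allLt_succ _ 48 (Cfsg.Agent.Helper28.allLt_succ _ 47 (Cfsg.Agent.Helper28.allLt_succ _ 46 (Cfsg.Agent.Helper28.allLt_succ _ 45 (Cfsg.Agent.Helper28.allLt_succ _ 44 (Cfsg.Agent.Helper28.allLt_succ _ 43 (Cfsg.Agent.Helper28.allLt_succ _ 42 (Cfsg.Agent.Helper28.allLt_succ _ 41 (Cfsg.Agent.Helper28.allLt_succ _ 40 (Cfsg.Agent.Helper28.allLt_succ _ 39 (Cfsg.Agent.Helper28.allLt_succ _ 38 (Cfsg.Agent.Helper28.allLt_succ _ 37 (Cfsg.Agent.Helper28.allLt_succ _ 36 (Cfsg.Agent.Helper28.allLt_succ _ 35 (Cfsg.Agent.Helper28.allLt_succ _ 34 (Cfsg.Agent.Helper28.allLt_succ _ 33 (Cfsg.Agent.Helper28.allLt_succ _ 32 (Cfsg.Agent.Helper28.allLt_succ _ 31 (Cfsg.Agent.Helper28.allLt_succ _ 30 (Cfsg.Agent.Helper28.allLt_succ _ 29 (Cfsg.Agent.Helper28.allLt_succ _ 28 (Cfsg.Agent.Helper28.allLt_succ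 _ 27 (Cfsg.Agent.Helper28.allLt_succ _ 26 (Cfsg.Agent.Helper28.allLt_succ _ 25 (Cfsg.Agent.Helper28.allLt_succ _ 24 (Cfsg.Agent.Helper28.allLt_succ _ 23 (Cfsg.Agent.Helper28.allLt_succ _ 22 (Cfsg.Agent.Helper28.allLt_succ _ 21 (Cfsg.Agent.Helper28.allLt_succ _ 20 (Cfsg.Agent.Helper28.allLt_succ _ 19 (Cfsg.Agent.Helper28.allLt_succ _ 18 (Cfsg.Agent.Helper28.allLt_succ _ 17 (Cfsg.Agent.Helper28.allLt_succ _ 16 (Cfsg.Agent.Helper28.allLt_succ _ 15 (Cfsg.Agent.Helper28.allLt_succ _ 14 (Cfsg.Agent.Helper28.allLt_succ _ 13 (Cfsg.Agent.Helper28.allLt_succ _ 12 (Cfsg.Agent.Helper28.allLt_succ _ 11 (Cfsg.Agent.Helper28.allLt_succ _ 10 (Cfsg.Agent.Helper28.allLt_succ _ 9 (Cfsg.Agent.Helper28.allLt_succ _ 8 (Cfsg.Agent.Helper28.allLt_succ _ 7 (Cfsg.Agent.Helper28.allLt_succ _ 6 (Cfsg.Agent.Helper28.allLt_succ _ 5 (Cfsg.Agent.Helper28.allLt_succ _ 4 (Cfsg.Agent.Helper28.allLt_succ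 _ 3 (Cfsg.Agent.Helper28.allLt_succ _ 2 (Cfsg.Agent.Helper28.allLt_succ _ 1 (Cfsg.Agent.Helper28.allLt_succ _ 0 (Cfsg.Agent.Helper28.allLt_zero _) pwb_0) pwb_1) pwb_2) pwb_3) pwb_4) pwb_5) pwb_6) pwb_7) pwb_8) pwb_9) pwb_10) pwb_11) pwb_12) pwb_13) pwb_14) pwb_15) pwb_16) pwb_17) pwb_18) pwb_19) pwb_20) pwb_21) pwb_22) pwb_23) pwb_24) pwb_25) pwb_26) pwb_27) pwb_28) pwb_29) pwb_30) pwb_31) pwb_32) pwb_33) pwb_34) pwb_35) pwb_36) pwb_37) pwb_38) pwb_39) pwb_40) pwb_41) pwb_42) pwb_43) pwb_44) pwb_45) pwb_46) pwb_47) pwb_48) pwb_49) pwb_50) pwb_51) pwb_52) pwb_53) pwb_54) pwb_55) pwb_56) pwb_57) pwb_58) pwb_59) pwb_60) pwb_61) pwb_62) pwb_63) pwb_64) pwb_65) pwb_66) pwb_67) pwb_68) pwb_69) pwb_70) pwb_71) pwb_72) pwb_73) pwb_74)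

theorem hTrel_all : ∀ l ∈ (pairs.map (fun p => Cfsg.Agent.Helper28.pairWord p.1 p.2.1 p.2.2) ++ invL) ++ extraL,
    ∀ i, i < 306936 → Cfsg.Agent.Helper28.walkA T l i = i := by
  intro l hl
  rcases List.mem_append.mp hl with h1 | h2
  · exact Cfsg.Agent.Helper28.Gn.relC_ok lookT colOf relL1 relC1 306936 relC1_eq rel_all l h1
  · rw [extraL_eq] at h2
    simp only [List.mem_cons, List.mem_nil_iff, or_false] at h2
    rcases h2 with rfl | rfl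
    · exact Cfsg.Agent.Helper28.Gn.pow_ok lookT colOf lookW0 306936 pre0 rep0 9 preC0 repC0 preC0_eq repC0_eq pwa_all
    · exact Cfsg.Agent.Helper28.Gn.pow_ok lookT colOf lookW1 306936 pre1 rep1 17 preC1 repC1 preC1_eq repC1_eq pwb_all

set_option maxRecDepth 100000 in
theorem wB_0a : Cfsg.Agent.Helper28.Gn.WordOfG Cfsg.Spor.Fi24.edges gen sgn (Cfsg.Spor.Fi24.l) [0] := by
  intro K _ v hv
  simp only [map_mul, map_pow, map_inv, FreeGroup.lift_apply_of, mul_inv_rev, inv_pow,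
    Cfsg.Agent.Helper28.inv_of_sq _ (hv Cfsg.Spor.Fi24.Gen.l (by decide)), Cfsg.Agent.Helper28.inv_of_sq _ (hv Cfsg.Spor.Fi24.Gen.k (by decide)), Cfsg.Agent.Helper28.inv_of_sq _ (hv Cfsg.Spor.Fi24.Gen.a (by decide)), Cfsg.Agent.Helper28.inv_of_sq _ (hv Cfsg.Spor.Fi24.Gen.b (by decide)), Cfsg.Agent.Helper28.inv_of_sq _ (hv Cfsg.Spor.Fi24.Gen.c (by decide)), Cfsg.Agent.Helper28.inv_of_sq _ (hv Cfsg.Spor.Fi24.Gen.d (by decide)), Cfsg.Agent.Helper28.inv_of_sq _ (hv Cfsg.Spor.Fi24.Gen.e (by decide)), Cfsg.Agent.Helper28.inv_of_sq _ (hv Cfsg.Spor.Fi24.Gen.f (by decide)), Cfsg.Agent.Helper28.inv_of_sq _ (hv Cfsg.Spor.Fi24.Gen.g (by decide)), Cfsg.Agent.Helper28.inv_of_sq _ (hv Cfsg.Spor.Fi24.Gen.j (by decide)), Cfsg.Agent.Helper28.inv_of_sq _ (hv Cfsg.Spor.Fi24.Gen.h (by decide)), Cfsg.Agent.Helper28.inv_of_sq _ (hv Cfsg.Spor.Fi24.Gen.i (by decide)),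
    List.map_cons, List.map_nil, List.prod_cons, List.prod_nil, cval_eq, gen, sgn, cond_true, cond_false,
    pow_succ, pow_zero, one_mul, mul_one, mul_assoc]

set_option maxRecDepth 100000 in
theorem wB_0b : Cfsg.Agent.Helper28.Gn.WordOfG Cfsg.Spor.Fi24.edges gen sgn ((Cfsg.Spor.Fi24.a * Cfsg.Spor.Fi24.b * Cfsg.Spor.Fi24.c * Cfsg.Spor.Fi24.d * Cfsg.Spor.Fi24.e * Cfsg.Spor.Fi24.f * Cfsg.Spor.Fi24.h)⁻¹) [10, 7, 6, 5, 4, 3, 2] := by
  intro K _ v hv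
  simp only [map_mul, map_pow, map_inv, FreeGroup.lift_apply_of, mul_inv_rev, inv_pow,
    Cfsg.Agent.Helper28.inv_of_sq _ (hv Cfsg.Spor.Fi24.Gen.l (by decide)), Cfsg.Agent.Helper28.inv_of_sq _ (hv Cfsg.Spor.Fi24.Gen.k (by decide)), Cfsg.Agent.Helper28.inv_of_sq _ (hv Cfsg.Spor.Fi24.Gen.a (by decide)), Cfsg.Agent.Helper28.inv_of_sq _ (hv Cfsg.Spor.Fi24.Gen.b (by decide)), Cfsg.Agent.Helper28.inv_of_sq _ (hv Cfsg.Spor.Fi24.Gen.c (by decide)), Cfsg.Agent.Helper28.inv_of_sq _ (hv Cfsg.Spor.Fi24.Gen.d (by decide)), Cfsg.Agent.Helper28.inv_of_sq _ (hv Cfsg.Spor.Fi24.Gen.e (by decide)), Cfsg.Agent.Helper28.inv_of_sq _ (hv Cfsg.Spor.Fi24.Gen.f (by decide)), Cfsg.Agent.Helper28.inv_of_sq _ (hv Cfsg.Spor.Fi24.Gen.g (by decide)), Cfsg.Agent.Helper28.inv_of_sq _ (hv Cfsg.Spor.Fi24.Gen.j (by decide)), Cfsg.Agent.Helper28.inv_of_sq _ (hv Cfsg.Spor.Fi24.Gen.h (by decide)), Cfsg.Agent.Helper28.inv_of_sq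 _ (hv Cfsg.Spor.Fi24.Gen.i (by decide)),
    List.map_cons, List.map_nil, List.prod_cons, List.prod_nil, cval_eq, gen, sgn, cond_true, cond_false,
    pow_succ, pow_zero, one_mul, mul_one, mul_assoc]

set_option maxRecDepth 100000 in
theorem wE_0 : Cfsg.Agent.Helper28.Gn.WordOfG Cfsg.Spor.Fi24.edges gen sgn (Cfsg.Spor.Fi24.l * (((Cfsg.Spor.Fi24.a * Cfsg.Spor.Fi24.b * Cfsg.Spor.Fi24.c * Cfsg.Spor.Fi24.d * Cfsg.Spor.Fi24.e * Cfsg.Spor.Fi24.f * Cfsg.Spor.Fi24.h) ^ 9)⁻¹)) [0, 10, 7, 6, 5, 4, 3, 2, 10, 7, 6, 5, 4, 3, 2, 10, 7, 6, 5, 4, 3, 2, 10, 7, 6, 5, 4, 3, 2, 10, 7, 6, 5, 4, 3, 2, 10, 7, 6, 5, 4, 3, 2, 10, 7, 6, 5, 4, 3, 2, 10, 7, 6, 5, 4, 3, 2, 10, 7, 6, 5, 4, 3, 2] := by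
  have h := Cfsg.Agent.Helper28.Gn.wordOfG_mul Cfsg.Spor.Fi24.edges gen sgn wB_0a (Cfsg.Agent.Helper28.Gn.wordOfG_pow Cfsg.Spor.Fi24.edges gen sgn wB_0b 9)
  rw [inv_pow] at h
  have e : ([0] ++ Cfsg.Agent.Helper28.Gn.lpow [10, 7, 6, 5, 4, 3, 2] 9 : List ℕ) = [0, 10, 7, 6, 5, 4, 3, 2, 10, 7, 6, 5, 4, 3, 2, 10, 7, 6, 5, 4, 3, 2, 10, 7, 6, 5, 4, 3, 2, 10, 7, 6, 5, 4, 3, 2, 10, 7, 6, 5, 4, 3, 2, 10, 7, 6, 5, 4, 3, 2, 10, 7, 6, 5, 4, 3, 2, 10, 7, 6, 5, 4, 3, 2] := by decide +kernel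
  rw [e] at h
  exact h

set_option maxRecDepth 100000 in
theorem wB_1 : Cfsg.Agent.Helper28.Gn.WordOfG Cfsg.Spor.Fi24.edges gen sgn (Cfsg.Spor.Fi24.d * Cfsg.Spor.Fi24.c * Cfsg.Spor.Fi24.b * Cfsg.Spor.Fi24.a * Cfsg.Spor.Fi24.k * Cfsg.Spor.Fi24.l * Cfsg.Spor.Fi24.d * Cfsg.Spor.Fi24.e * Cfsg.Spor.Fi24.f * Cfsg.Spor.Fi24.g * Cfsg.Spor.Fi24.j * Cfsg.Spor.Fi24.d * Cfsg.Spor.Fi24.h * Cfsg.Spor.Fi24.i) [5, 4, 3, 2, 1, 0, 5, 6, 7, 8, 9, 5, 10, 11] := by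
  intro K _ v hv
  simp only [map_mul, map_pow, map_inv, FreeGroup.lift_apply_of, mul_inv_rev, inv_pow,
    Cfsg.Agent.Helper28.inv_of_sq _ (hv Cfsg.Spor.Fi24.Gen.l (by decide)), Cfsg.Agent.Helper28.inv_of_sq _ (hv Cfsg.Spor.Fi24.Gen.k (by decide)), Cfsg.Agent.Helper28.inv_of_sq _ (hv Cfsg.Spor.Fi24.Gen.a (by decide)), Cfsg.Agent.Helper28.inv_of_sq _ (hv Cfsg.Spor.Fi24.Gen.b (by decide)), Cfsg.Agent.Helper28.inv_of_sq _ (hv Cfsg.Spor.Fi24.Gen.c (by decide)), Cfsg.Agent.Helper28.inv_of_sq _ (hv Cfsg.Spor.Fi24.Gen.d (by decide)), Cfsg.Agent.Helper28.inv_of_sq _ (hv Cfsg.Spor.Fi24.Gen.e (by decide)), Cfsg.Agent.Helper28.inv_of_sq _ (hv Cfsg.Spor.Fi24.Gen.f (by decide)), Cfsg.Agent.Helper28.inv_of_sq _ (hv Cfsg.Spor.Fi24.Gen.g (by decide)), Cfsg.Agent.Helper28.inv_of_sq _ (hv Cfsg.Spor.Fi24.Gen.j (by decide)), Cfsg.Agent.Helper28.inv_of_sq _ (hv Cfsg.Spor.Fi24.Gen.h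 (by decide)), Cfsg.Agent.Helper28.inv_of_sq _ (hv Cfsg.Spor.Fi24.Gen.i (by decide)),
    List.map_cons, List.map_nil, List.prod_cons, List.prod_nil, cval_eq, gen, sgn, cond_true, cond_false,
    pow_succ, pow_zero, one_mul, mul_one, mul_assoc]

set_option maxRecDepth 100000 in
theorem wE_1 : Cfsg.Agent.Helper28.Gn.WordOfG Cfsg.Spor.Fi24.edges gen sgn ((Cfsg.Spor.Fi24.d * Cfsg.Spor.Fi24.c * Cfsg.Spor.Fi24.b * Cfsg.Spor.Fi24.a * Cfsg.Spor.Fi24.k * Cfsg.Spor.Fi24.l * Cfsg.Spor.Fi24.d * Cfsg.Spor.Fi24.e * Cfsg.Spor.Fi24.f * Cfsg.Spor.Fi24.g * Cfsg.Spor.Fi24.j * Cfsg.Spor.Fi24.d * Cfsg.Spor.Fi24.h * Cfsg.Spor.Fi24.i) ^ 17) [5, 4, 3, 2, 1, 0, 5, 6, 7, 8, 9, 5, 10, 11, 5, 4, 3, 2, 1, 0, 5, 6, 7, 8, 9, 5, 10, 11, 5, 4, 3, 2, 1, 0, 5, 6, 7, 8, 9, 5, 10, 11, 5, 4, 3, 2, 1, 0, 5, 6, 7, 8, 9, 5, 10, 11, 5, 4, 3, 2, 1, 0, 5, 6, 7, 8, 9, 5, 10, 11, 5, 4, 3, 2, 1, 0, 5, 6, 7,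 8, 9, 5, 10, 11, 5, 4, 3, 2, 1, 0, 5, 6, 7, 8, 9, 5, 10, 11, 5, 4, 3, 2, 1, 0, 5, 6, 7, 8, 9, 5, 10, 11, 5, 4, 3, 2, 1, 0, 5, 6, 7, 8, 9, 5, 10, 11, 5, 4, 3, 2, 1, 0, 5, 6, 7, 8, 9, 5, 10, 11, 5, 4, 3, 2, 1, 0, 5, 6, 7, 8, 9, 5, 10, 11, 5, 4, 3, 2, 1, 0, 5, 6, 7, 8, 9, 5, 10, 11, 5, 4, 3, 2, 1, 0, 5, 6, 7, 8, 9, 5, 10, 11, 5, 4, 3, 2, 1, 0, 5, 6, 7, 8, 9, 5, 10, 11, 5, 4, 3, 2, 1, 0, 5, 6, 7, 8, 9, 5, 10, 11, 5, 4, 3, 2, 1, 0, 5, 6, 7, 8, 9, 5, 10, 11, 5, 4, 3, 2, 1, 0, 5, 6, 7, 8, 9, 5, 10, 11] := by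
  have h := Cfsg.Agent.Helper28.Gn.wordOfG_pow Cfsg.Spor.Fi24.edges gen sgn wB_1 17
  have e : (Cfsg.Agent.Helper28.Gn.lpow [5, 4, 3, 2, 1, 0, 5, 6, 7, 8, 9, 5, 10, 11] 17 : List ℕ) = [5, 4, 3, 2, 1, 0, 5, 6, 7, 8, 9, 5, 10, 11, 5, 4, 3, 2, 1, 0, 5, 6, 7, 8, 9, 5, 10, 11, 5, 4, 3, 2, 1, 0, 5, 6, 7, 8, 9, 5, 10, 11, 5, 4, 3, 2, 1, 0, 5, 6, 7, 8, 9, 5, 10, 11, 5, 4, 3, 2, 1, 0, 5, 6, 7, 8, 9, 5, 10, 11, 5, 4, 3, 2, 1, 0, 5, 6, 7, 8, 9, 5, 10, 11, 5, 4, 3, 2, 1, 0, 5, 6, 7, 8, 9, 5, 10, 11, 5, 4, 3, 2, 1, 0, 5, 6, 7, 8, 9, 5, 10, 11, 5, 4, 3, 2, 1, 0, 5, 6, 7, 8, 9, 5, 10, 11, 5, 4, 3, 2, 1, 0, 5, 6, 7, 8, 9, 5, 10, 11, 5, 4, 3, 2, 1, 0, 5, 6, 7, 8, 9, 5, 10, 11, 5, 4, 3, 2, 1, 0, 5, 6, 7, 8, 9, 5, 10, 11, 5, 4, 3, 2, 1, 0, 5, 6, 7, 8, 9, 5, 10, 11, 5, 4, 3, 2, 1, 0, 5, 6, 7, 8, 9, 5, 10, 11, 5, 4, 3, 2, 1, 0, 5, 6, 7, 8, 9, 5, 10, 11, 5, 4, 3, 2, 1, 0, 5, 6, 7, 8,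 9, 5, 10, 11, 5, 4, 3, 2, 1, 0, 5, 6, 7, 8, 9, 5, 10, 11] := by decide +kernel
  rw [e] at h
  exact h

set_option maxRecDepth 100000 in
theorem wS_0 : Cfsg.Agent.Helper28.Gn.WordOfG Cfsg.Spor.Fi24.edges gen sgn (Cfsg.Spor.Fi24.a) [2] := by
  intro K _ v hv
  simp only [map_mul, map_pow, map_inv, FreeGroup.lift_apply_of, mul_inv_rev, inv_pow,
    Cfsg.Agent.Helper28.inv_of_sq _ (hv Cfsg.Spor.Fi24.Gen.l (by decide)), Cfsg.Agent.Helper28.inv_of_sq _ (hv Cfsg.Spor.Fi24.Gen.k (by decide)), Cfsg.Agent.Helper28.inv_of_sq _ (hv Cfsg.Spor.Fi24.Gen.a (by decide)), Cfsg.Agent.Helper28.inv_of_sq _ (hv Cfsg.Spor.Fi24.Gen.b (by decide)), Cfsg.Agent.Helper28.inv_of_sq _ (hv Cfsg.Spor.Fi24.Gen.c (by decide)), Cfsg.Agent.Helper28.inv_of_sq _ (hv Cfsg.Spor.Fi24.Gen.d (by decide)), Cfsg.Agent.Helper28.inv_of_sq _ (hv Cfsg.Spor.Fi24.Gen.e (by decide)), Cfsg.Agent.Helper28.inv_of_sq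 _ (hv Cfsg.Spor.Fi24.Gen.f (by decide)), Cfsg.Agent.Helper28.inv_of_sq _ (hv Cfsg.Spor.Fi24.Gen.g (by decide)), Cfsg.Agent.Helper28.inv_of_sq _ (hv Cfsg.Spor.Fi24.Gen.j (by decide)), Cfsg.Agent.Helper28.inv_of_sq _ (hv Cfsg.Spor.Fi24.Gen.h (by decide)), Cfsg.Agent.Helper28.inv_of_sq _ (hv Cfsg.Spor.Fi24.Gen.i (by decide)),
    List.map_cons, List.map_nil, List.prod_cons, List.prod_nil, cval_eq, gen, sgn, cond_true, cond_false,
    pow_succ, pow_zero, one_mul, mul_one, mul_assoc]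

set_option maxRecDepth 100000 in
theorem wS_1 : Cfsg.Agent.Helper28.Gn.WordOfG Cfsg.Spor.Fi24.edges gen sgn (Cfsg.Spor.Fi24.b) [3] := by
  intro K _ v hv
  simp only [map_mul, map_pow, map_inv, FreeGroup.lift_apply_of, mul_inv_rev, inv_pow,
    Cfsg.Agent.Helper28.inv_of_sq _ (hv Cfsg.Spor.Fi24.Gen.l (by decide)), Cfsg.Agent.Helper28.inv_of_sq _ (hv Cfsg.Spor.Fi24.Gen.k (by decide)), Cfsg.Agent.Helper28.inv_of_sq _ (hv Cfsg.Spor.Fi24.Gen.a (by decide)), Cfsg.Agent.Helper28.inv_of_sq _ (hv Cfsg.Spor.Fi24.Gen.b (by decide)), Cfsg.Agent.Helper28.inv_of_sq _ (hv Cfsg.Spor.Fi24.Gen.c (by decide)), Cfsg.Agent.Helper28.inv_of_sq _ (hv Cfsg.Spor.Fi24.Gen.d (by decide)), Cfsg.Agent.Helper28.inv_of_sq _ (hv Cfsg.Spor.Fi24.Gen.e (by decide)), Cfsg.Agent.Helper28.inv_of_sq _ (hv Cfsg.Spor.Fi24.Gen.f (by decide)), Cfsg.Agent.Helper28.inv_of_sq _ (hv Cfsg.Spor.Fi24.Gen.g (by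 decide)), Cfsg.Agent.Helper28.inv_of_sq _ (hv Cfsg.Spor.Fi24.Gen.j (by decide)), Cfsg.Agent.Helper28.inv_of_sq _ (hv Cfsg.Spor.Fi24.Gen.h (by decide)), Cfsg.Agent.Helper28.inv_of_sq _ (hv Cfsg.Spor.Fi24.Gen.i (by decide)),
    List.map_cons, List.map_nil, List.prod_cons, List.prod_nil, cval_eq, gen, sgn, cond_true, cond_false,
    pow_succ, pow_zero, one_mul, mul_one, mul_assoc]

set_option maxRecDepth 100000 in
theorem wS_2 : Cfsg.Agent.Helper28.Gn.WordOfG Cfsg.Spor.Fi24.edges gen sgn (Cfsg.Spor.Fi24.c) [4] := by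
  intro K _ v hv
  simp only [map_mul, map_pow, map_inv, FreeGroup.lift_apply_of, mul_inv_rev, inv_pow,
    Cfsg.Agent.Helper28.inv_of_sq _ (hv Cfsg.Spor.Fi24.Gen.l (by decide)), Cfsg.Agent.Helper28.inv_of_sq _ (hv Cfsg.Spor.Fi24.Gen.k (by decide)), Cfsg.Agent.Helper28.inv_of_sq _ (hv Cfsg.Spor.Fi24.Gen.a (by decide)), Cfsg.Agent.Helper28.inv_of_sq _ (hv Cfsg.Spor.Fi24.Gen.b (by decide)), Cfsg.Agent.Helper28.inv_of_sq _ (hv Cfsg.Spor.Fi24.Gen.c (by decide)), Cfsg.Agent.Helper28.inv_of_sq _ (hv Cfsg.Spor.Fi24.Gen.d (by decide)), Cfsg.Agent.Helper28.inv_of_sq _ (hv Cfsg.Spor.Fi24.Gen.e (by decide)), Cfsg.Agent.Helper28.inv_of_sq _ (hv Cfsg.Spor.Fi24.Gen.f (by decide)), Cfsg.Agent.Helper28.inv_of_sq _ (hv Cfsg.Spor.Fi24.Gen.g (by decide)), Cfsg.Agent.Helper28.inv_of_sq _ (hv Cfsg.Spor.Fi24.Gen.j (by decide)), Cfsg.Agent.Helper28.inv_of_sq _ (hv Cfsg.Spor.Fi24.Gen.h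 (by decide)), Cfsg.Agent.Helper28.inv_of_sq _ (hv Cfsg.Spor.Fi24.Gen.i (by decide)),
    List.map_cons, List.map_nil, List.prod_cons, List.prod_nil, cval_eq, gen, sgn, cond_true, cond_false,
    pow_succ, pow_zero, one_mul, mul_one, mul_assoc]

set_option maxRecDepth 100000 in
theorem wS_3 : Cfsg.Agent.Helper28.Gn.WordOfG Cfsg.Spor.Fi24.edges gen sgn (Cfsg.Spor.Fi24.d) [5] := by
  intro K _ v hv
  simp only [map_mul, map_pow, map_inv, FreeGroup.lift_apply_of, mul_inv_rev, inv_pow,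
    Cfsg.Agent.Helper28.inv_of_sq _ (hv Cfsg.Spor.Fi24.Gen.l (by decide)), Cfsg.Agent.Helper28.inv_of_sq _ (hv Cfsg.Spor.Fi24.Gen.k (by decide)), Cfsg.Agent.Helper28.inv_of_sq _ (hv Cfsg.Spor.Fi24.Gen.a (by decide)), Cfsg.Agent.Helper28.inv_of_sq _ (hv Cfsg.Spor.Fi24.Gen.b (by decide)), Cfsg.Agent.Helper28.inv_of_sq _ (hv Cfsg.Spor.Fi24.Gen.c (by decide)), Cfsg.Agent.Helper28.inv_of_sq _ (hv Cfsg.Spor.Fi24.Gen.d (by decide)), Cfsg.Agent.Helper28.inv_of_sq _ (hv Cfsg.Spor.Fi24.Gen.e (by decide)), Cfsg.Agent.Helper28.inv_of_sq _ (hv Cfsg.Spor.Fi24.Gen.f (by decide)), Cfsg.Agent.Helper28.inv_of_sq _ (hv Cfsg.Spor.Fi24.Gen.g (by decide)), Cfsg.Agent.Helper28.inv_of_sq _ (hv Cfsg.Spor.Fi24.Gen.j (by decide)), Cfsg.Agent.Helper28.inv_of_sq _ (hv Cfsg.Spor.Fi24.Gen.h (by decide)), Cfsg.Agent.Helper28.inv_of_sq _ (hv Cfsg.Spor.Fi24.Gen.i (by decide)),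
    List.map_cons, List.map_nil, List.prod_cons, List.prod_nil, cval_eq, gen, sgn, cond_true, cond_false,
    pow_succ, pow_zero, one_mul, mul_one, mul_assoc]

set_option maxRecDepth 100000 in
theorem wS_4 : Cfsg.Agent.Helper28.Gn.WordOfG Cfsg.Spor.Fi24.edges gen sgn (Cfsg.Spor.Fi24.e) [6] := by
  intro K _ v hv
  simp only [map_mul, map_pow, map_inv, FreeGroup.lift_apply_of, mul_inv_rev, inv_pow,
    Cfsg.Agent.Helper28.inv_of_sq _ (hv Cfsg.Spor.Fi24.Gen.l (by decide)), Cfsg.Agent.Helper28.inv_of_sq _ (hv Cfsg.Spor.Fi24.Gen.k (by decide)), Cfsg.Agent.Helper28.inv_of_sq _ (hv Cfsg.Spor.Fi24.Gen.a (by decide)), Cfsg.Agent.Helper28.inv_of_sq _ (hv Cfsg.Spor.Fi24.Gen.b (by decide)), Cfsg.Agent.Helper28.inv_of_sq _ (hv Cfsg.Spor.Fi24.Gen.c (by decide)), Cfsg.Agent.Helper28.inv_of_sq _ (hv Cfsg.Spor.Fi24.Gen.d (by decide)), Cfsg.Agent.Helper28.inv_of_sq _ (hv Cfsg.Spor.Fi24.Gen.e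 (by decide)), Cfsg.Agent.Helper28.inv_of_sq _ (hv Cfsg.Spor.Fi24.Gen.f (by decide)), Cfsg.Agent.Helper28.inv_of_sq _ (hv Cfsg.Spor.Fi24.Gen.g (by decide)), Cfsg.Agent.Helper28.inv_of_sq _ (hv Cfsg.Spor.Fi24.Gen.j (by decide)), Cfsg.Agent.Helper28.inv_of_sq _ (hv Cfsg.Spor.Fi24.Gen.h (by decide)), Cfsg.Agent.Helper28.inv_of_sq _ (hv Cfsg.Spor.Fi24.Gen.i (by decide)),
    List.map_cons, List.map_nil, List.prod_cons, List.prod_nil, cval_eq, gen, sgn, cond_true, cond_false,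
    pow_succ, pow_zero, one_mul, mul_one, mul_assoc]

set_option maxRecDepth 100000 in
theorem wS_5 : Cfsg.Agent.Helper28.Gn.WordOfG Cfsg.Spor.Fi24.edges gen sgn (Cfsg.Spor.Fi24.f) [7] := by
  intro K _ v hv
  simp only [map_mul, map_pow, map_inv, FreeGroup.lift_apply_of, mul_inv_rev, inv_pow,
    Cfsg.Agent.Helper28.inv_of_sq _ (hv Cfsg.Spor.Fi24.Gen.l (by decide)), Cfsg.Agent.Helper28.inv_of_sq _ (hv Cfsg.Spor.Fi24.Gen.k (by decide)), Cfsg.Agent.Helper28.inv_of_sq _ (hv Cfsg.Spor.Fi24.Gen.a (by decide)), Cfsg.Agent.Helper28.inv_of_sq _ (hv Cfsg.Spor.Fi24.Gen.b (by decide)), Cfsg.Agent.Helper28.inv_of_sq _ (hv Cfsg.Spor.Fi24.Gen.c (by decide)), Cfsg.Agent.Helper28.inv_of_sq _ (hv Cfsg.Spor.Fi24.Gen.d (by decide)), Cfsg.Agent.Helper28.inv_of_sq _ (hv Cfsg.Spor.Fi24.Gen.e (by decide)), Cfsg.Agent.Helper28.inv_of_sq _ (hv Cfsg.Spor.Fi24.Gen.f (by decide)), Cfsg.Agent.Helper28.inv_of_sq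 _ (hv Cfsg.Spor.Fi24.Gen.g (by decide)), Cfsg.Agent.Helper28.inv_of_sq _ (hv Cfsg.Spor.Fi24.Gen.j (by decide)), Cfsg.Agent.Helper28.inv_of_sq _ (hv Cfsg.Spor.Fi24.Gen.h (by decide)), Cfsg.Agent.Helper28.inv_of_sq _ (hv Cfsg.Spor.Fi24.Gen.i (by decide)),
    List.map_cons, List.map_nil, List.prod_cons, List.prod_nil, cval_eq, gen, sgn, cond_true, cond_false,
    pow_succ, pow_zero, one_mul, mul_one, mul_assoc]

set_option maxRecDepth 100000 in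
theorem wS_6 : Cfsg.Agent.Helper28.Gn.WordOfG Cfsg.Spor.Fi24.edges gen sgn (Cfsg.Spor.Fi24.g) [8] := by
  intro K _ v hv
  simp only [map_mul, map_pow, map_inv, FreeGroup.lift_apply_of, mul_inv_rev, inv_pow,
    Cfsg.Agent.Helper28.inv_of_sq _ (hv Cfsg.Spor.Fi24.Gen.l (by decide)), Cfsg.Agent.Helper28.inv_of_sq _ (hv Cfsg.Spor.Fi24.Gen.k (by decide)), Cfsg.Agent.Helper28.inv_of_sq _ (hv Cfsg.Spor.Fi24.Gen.a (by decide)), Cfsg.Agent.Helper28.inv_of_sq _ (hv Cfsg.Spor.Fi24.Gen.b (by decide)), Cfsg.Agent.Helper28.inv_of_sq _ (hv Cfsg.Spor.Fi24.Gen.c (by decide)), Cfsg.Agent.Helper28.inv_of_sq _ (hv Cfsg.Spor.Fi24.Gen.d (by decide)), Cfsg.Agent.Helper28.inv_of_sq _ (hv Cfsg.Spor.Fi24.Gen.e (by decide)), Cfsg.Agent.Helper28.inv_of_sq _ (hv Cfsg.Spor.Fi24.Gen.f (by decide)), Cfsg.Agent.Helper28.inv_of_sq _ (hv Cfsg.Spor.Fi24.Gen.g (by decide)), Cfsg.Agent.Helper28.inv_of_sq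 _ (hv Cfsg.Spor.Fi24.Gen.j (by decide)), Cfsg.Agent.Helper28.inv_of_sq _ (hv Cfsg.Spor.Fi24.Gen.h (by decide)), Cfsg.Agent.Helper28.inv_of_sq _ (hv Cfsg.Spor.Fi24.Gen.i (by decide)),
    List.map_cons, List.map_nil, List.prod_cons, List.prod_nil, cval_eq, gen, sgn, cond_true, cond_false,
    pow_succ, pow_zero, one_mul, mul_one, mul_assoc]

set_option maxRecDepth 100000 in
theorem wS_7 : Cfsg.Agent.Helper28.Gn.WordOfG Cfsg.Spor.Fi24.edges gen sgn (Cfsg.Spor.Fi24.h) [10] := by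
  intro K _ v hv
  simp only [map_mul, map_pow, map_inv, FreeGroup.lift_apply_of, mul_inv_rev, inv_pow,
    Cfsg.Agent.Helper28.inv_of_sq _ (hv Cfsg.Spor.Fi24.Gen.l (by decide)), Cfsg.Agent.Helper28.inv_of_sq _ (hv Cfsg.Spor.Fi24.Gen.k (by decide)), Cfsg.Agent.Helper28.inv_of_sq _ (hv Cfsg.Spor.Fi24.Gen.a (by decide)), Cfsg.Agent.Helper28.inv_of_sq _ (hv Cfsg.Spor.Fi24.Gen.b (by decide)), Cfsg.Agent.Helper28.inv_of_sq _ (hv Cfsg.Spor.Fi24.Gen.c (by decide)), Cfsg.Agent.Helper28.inv_of_sq _ (hv Cfsg.Spor.Fi24.Gen.d (by decide)), Cfsg.Agent.Helper28.inv_of_sq _ (hv Cfsg.Spor.Fi24.Gen.e (by decide)), Cfsg.Agent.Helper28.inv_of_sq _ (hv Cfsg.Spor.Fi24.Gen.f (by decide)), Cfsg.Agent.Helper28.inv_of_sq _ (hv Cfsg.Spor.Fi24.Gen.g (by decide)), Cfsg.Agent.Helper28.inv_of_sq _ (hv Cfsg.Spor.Fi24.Gen.j (by decide)), Cfsg.Agent.Helper28.inv_of_sq _ (hv Cfsg.Spor.Fi24.Gen.h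 (by decide)), Cfsg.Agent.Helper28.inv_of_sq _ (hv Cfsg.Spor.Fi24.Gen.i (by decide)),
    List.map_cons, List.map_nil, List.prod_cons, List.prod_nil, cval_eq, gen, sgn, cond_true, cond_false,
    pow_succ, pow_zero, one_mul, mul_one, mul_assoc]

set_option maxRecDepth 100000 in
theorem wS_8 : Cfsg.Agent.Helper28.Gn.WordOfG Cfsg.Spor.Fi24.edges gen sgn (Cfsg.Spor.Fi24.i) [11] := by
  intro K _ v hv
  simp only [map_mul, map_pow, map_inv, FreeGroup.lift_apply_of, mul_inv_rev, inv_pow,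
    Cfsg.Agent.Helper28.inv_of_sq _ (hv Cfsg.Spor.Fi24.Gen.l (by decide)), Cfsg.Agent.Helper28.inv_of_sq _ (hv Cfsg.Spor.Fi24.Gen.k (by decide)), Cfsg.Agent.Helper28.inv_of_sq _ (hv Cfsg.Spor.Fi24.Gen.a (by decide)), Cfsg.Agent.Helper28.inv_of_sq _ (hv Cfsg.Spor.Fi24.Gen.b (by decide)), Cfsg.Agent.Helper28.inv_of_sq _ (hv Cfsg.Spor.Fi24.Gen.c (by decide)), Cfsg.Agent.Helper28.inv_of_sq _ (hv Cfsg.Spor.Fi24.Gen.d (by decide)), Cfsg.Agent.Helper28.inv_of_sq _ (hv Cfsg.Spor.Fi24.Gen.e (by decide)), Cfsg.Agent.Helper28.inv_of_sq _ (hv Cfsg.Spor.Fi24.Gen.f (by decide)), Cfsg.Agent.Helper28.inv_of_sq _ (hv Cfsg.Spor.Fi24.Gen.g (by decide)), Cfsg.Agent.Helper28.inv_of_sq _ (hv Cfsg.Spor.Fi24.Gen.j (by decide)), Cfsg.Agent.Helper28.inv_of_sq _ (hv Cfsg.Spor.Fi24.Gen.h (by decide)), Cfsg.Agent.Helper28.inv_of_sq _ (hv Cfsg.Spor.Fi24.Gen.i (by decide)),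
    List.map_cons, List.map_nil, List.prod_cons, List.prod_nil, cval_eq, gen, sgn, cond_true, cond_false,
    pow_succ, pow_zero, one_mul, mul_one, mul_assoc]

set_option maxRecDepth 100000 in
theorem wS_9 : Cfsg.Agent.Helper28.Gn.WordOfG Cfsg.Spor.Fi24.edges gen sgn (Cfsg.Spor.Fi24.j) [9] := by
  intro K _ v hv
  simp only [map_mul, map_pow, map_inv, FreeGroup.lift_apply_of, mul_inv_rev, inv_pow,
    Cfsg.Agent.Helper28.inv_of_sq _ (hv Cfsg.Spor.Fi24.Gen.l (by decide)), Cfsg.Agent.Helper28.inv_of_sq _ (hv Cfsg.Spor.Fi24.Gen.k (by decide)), Cfsg.Agent.Helper28.inv_of_sq _ (hv Cfsg.Spor.Fi24.Gen.a (by decide)), Cfsg.Agent.Helper28.inv_of_sq _ (hv Cfsg.Spor.Fi24.Gen.b (by decide)), Cfsg.Agent.Helper28.inv_of_sq _ (hv Cfsg.Spor.Fi24.Gen.c (by decide)), Cfsg.Agent.Helper28.inv_of_sq _ (hv Cfsg.Spor.Fi24.Gen.d (by decide)), Cfsg.Agent.Helper28.inv_of_sq _ (hv Cfsg.Spor.Fi24.Gen.e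 (by decide)), Cfsg.Agent.Helper28.inv_of_sq _ (hv Cfsg.Spor.Fi24.Gen.f (by decide)), Cfsg.Agent.Helper28.inv_of_sq _ (hv Cfsg.Spor.Fi24.Gen.g (by decide)), Cfsg.Agent.Helper28.inv_of_sq _ (hv Cfsg.Spor.Fi24.Gen.j (by decide)), Cfsg.Agent.Helper28.inv_of_sq _ (hv Cfsg.Spor.Fi24.Gen.h (by decide)), Cfsg.Agent.Helper28.inv_of_sq _ (hv Cfsg.Spor.Fi24.Gen.i (by decide)),
    List.map_cons, List.map_nil, List.prod_cons, List.prod_nil, cval_eq, gen, sgn, cond_true, cond_false,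
    pow_succ, pow_zero, one_mul, mul_one, mul_assoc]

set_option maxRecDepth 100000 in
theorem wS_10 : Cfsg.Agent.Helper28.Gn.WordOfG Cfsg.Spor.Fi24.edges gen sgn (Cfsg.Spor.Fi24.l) [0] := by
  intro K _ v hv
  simp only [map_mul, map_pow, map_inv, FreeGroup.lift_apply_of, mul_inv_rev, inv_pow,
    Cfsg.Agent.Helper28.inv_of_sq _ (hv Cfsg.Spor.Fi24.Gen.l (by decide)), Cfsg.Agent.Helper28.inv_of_sq _ (hv Cfsg.Spor.Fi24.Gen.k (by decide)), Cfsg.Agent.Helper28.inv_of_sq _ (hv Cfsg.Spor.Fi24.Gen.a (by decide)), Cfsg.Agent.Helper28.inv_of_sq _ (hv Cfsg.Spor.Fi24.Gen.b (by decide)), Cfsg.Agent.Helper28.inv_of_sq _ (hv Cfsg.Spor.Fi24.Gen.c (by decide)), Cfsg.Agent.Helper28.inv_of_sq _ (hv Cfsg.Spor.Fi24.Gen.d (by decide)), Cfsg.Agent.Helper28.inv_of_sq _ (hv Cfsg.Spor.Fi24.Gen.e (by decide)), Cfsg.Agent.Helper28.inv_of_sq _ (hv Cfsg.Spor.Fi24.Gen.f (by decide)), Cfsg.Agent.Helper28.inv_of_sq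 _ (hv Cfsg.Spor.Fi24.Gen.g (by decide)), Cfsg.Agent.Helper28.inv_of_sq _ (hv Cfsg.Spor.Fi24.Gen.j (by decide)), Cfsg.Agent.Helper28.inv_of_sq _ (hv Cfsg.Spor.Fi24.Gen.h (by decide)), Cfsg.Agent.Helper28.inv_of_sq _ (hv Cfsg.Spor.Fi24.Gen.i (by decide)),
    List.map_cons, List.map_nil, List.prod_cons, List.prod_nil, cval_eq, gen, sgn, cond_true, cond_false,
    pow_succ, pow_zero, one_mul, mul_one, mul_assoc]

theorem wE_all : List.Forall₂ (Cfsg.Agent.Helper28.Gn.WordOfG Cfsg.Spor.Fi24.edges gen sgn) Cfsg.Spor.Fi24.extra extraL := by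
  unfold Cfsg.Spor.Fi24.extra extraL
  exact List.Forall₂.cons wE_0 (List.Forall₂.cons wE_1 (List.Forall₂.nil))

theorem wSub_l : ∀ l ∈ subL, ∃ s ∈ ({Cfsg.Spor.Fi24.a, Cfsg.Spor.Fi24.b, Cfsg.Spor.Fi24.c, Cfsg.Spor.Fi24.d, Cfsg.Spor.Fi24.e, Cfsg.Spor.Fi24.f, Cfsg.Spor.Fi24.g, Cfsg.Spor.Fi24.h, Cfsg.Spor.Fi24.i, Cfsg.Spor.Fi24.j, Cfsg.Spor.Fi24.l} : Set (FreeGroup Cfsg.Spor.Fi24.Gen)), Cfsg.Agent.Helper28.Gn.WordOfG Cfsg.Spor.Fi24.edges gen sgn s l := by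
  intro l hl
  simp only [subL, List.mem_cons, List.mem_nil_iff, or_false] at hl
  rcases hl with rfl | rfl | rfl | rfl | rfl | rfl | rfl | rfl | rfl | rfl | rfl
  · exact ⟨_, by simp only [Set.mem_insert_iff, Set.mem_singleton_iff, true_or, or_true], wS_0⟩
  · exact ⟨_, by simp only [Set.mem_insert_iff, Set.mem_singleton_iff, true_or, or_true], wS_1⟩
  · exact ⟨_, by simp only [Set.mem_insert_iff, Set.mem_singleton_iff, true_or, or_true], wS_2⟩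
  · exact ⟨_, by simp only [Set.mem_insert_iff, Set.mem_singleton_iff, true_or, or_true], wS_3⟩
  · exact ⟨_, by simp only [Set.mem_insert_iff, Set.mem_singleton_iff, true_or, or_true], wS_4⟩
  · exact ⟨_, by simp only [Set.mem_insert_iff, Set.mem_singleton_iff, true_or, or_true], wS_5⟩
  · exact ⟨_, by simp only [Set.mem_insert_iff, Set.mem_singleton_iff, true_or, or_true], wS_6⟩
  · exact ⟨_, by simp only [Set.mem_insert_iff, Set.mem_singleton_iff, true_or, or_true], wS_7⟩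
  · exact ⟨_, by simp only [Set.mem_insert_iff, Set.mem_singleton_iff, true_or, or_true], wS_8⟩
  · exact ⟨_, by simp only [Set.mem_insert_iff, Set.mem_singleton_iff, true_or, or_true], wS_9⟩
  · exact ⟨_, by simp only [Set.mem_insert_iff, Set.mem_singleton_iff, true_or, or_true], wS_10⟩

theorem wSub_r : ∀ s ∈ ({Cfsg.Spor.Fi24.a, Cfsg.Spor.Fi24.b, Cfsg.Spor.Fi24.c, Cfsg.Spor.Fi24.d, Cfsg.Spor.Fi24.e, Cfsg.Spor.Fi24.f, Cfsg.Spor.Fi24.g, Cfsg.Spor.Fi24.h, Cfsg.Spor.Fi24.i, Cfsg.Spor.Fi24.j, Cfsg.Spor.Fi24.l} : Set (FreeGroup Cfsg.Spor.Fi24.Gen)), ∃ l ∈ subL, Cfsg.Agent.Helper28.Gn.WordOfG Cfsg.Spor.Fi24.edges gen sgn s l := by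
  intro s hs
  simp only [Set.mem_insert_iff, Set.mem_singleton_iff] at hs
  rcases hs with rfl | rfl | rfl | rfl | rfl | rfl | rfl | rfl | rfl | rfl | rfl
  · exact ⟨_, by simp only [subL, List.mem_cons, List.mem_nil_iff, true_or, or_true], wS_0⟩
  · exact ⟨_, by simp only [subL, List.mem_cons, List.mem_nil_iff, true_or, or_true], wS_1⟩
  · exact ⟨_, by simp only [subL, List.mem_cons, List.mem_nil_iff, true_or, or_true], wS_2⟩
  · exact ⟨_, by simp only [subL, List.mem_cons, List.mem_nil_iff, true_or, or_true], wS_3⟩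
  · exact ⟨_, by simp only [subL, List.mem_cons, List.mem_nil_iff, true_or, or_true], wS_4⟩
  · exact ⟨_, by simp only [subL, List.mem_cons, List.mem_nil_iff, true_or, or_true], wS_5⟩
  · exact ⟨_, by simp only [subL, List.mem_cons, List.mem_nil_iff, true_or, or_true], wS_6⟩
  · exact ⟨_, by simp only [subL, List.mem_cons, List.mem_nil_iff, true_or, or_true], wS_7⟩
  · exact ⟨_, by simp only [subL, List.mem_cons, List.mem_nil_iff, true_or, or_true], wS_8⟩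
  · exact ⟨_, by simp only [subL, List.mem_cons, List.mem_nil_iff, true_or, or_true], wS_9⟩
  · exact ⟨_, by simp only [subL, List.mem_cons, List.mem_nil_iff, true_or, or_true], wS_10⟩

/-- The certificate. -/
theorem cert : Cfsg.Agent.Helper28.Gn.GCert Cfsg.Spor.Fi24.edges Cfsg.Spor.Fi24.extra
    ({Cfsg.Spor.Fi24.a, Cfsg.Spor.Fi24.b, Cfsg.Spor.Fi24.c, Cfsg.Spor.Fi24.d, Cfsg.Spor.Fi24.e, Cfsg.Spor.Fi24.f, Cfsg.Spor.Fi24.g, Cfsg.Spor.Fi24.h, Cfsg.Spor.Fi24.i, Cfsg.Spor.Fi24.j, Cfsg.Spor.Fi24.l} : Set (FreeGroup Cfsg.Spor.Fi24.Gen)) gen sgn code D 306936 lv T pairs invL extraL subL where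
  hD := by decide +kernel
  hnrel := by decide +kernel
  hcode := by intro x; cases x <;> exact ⟨by decide +kernel, rfl, rfl⟩
  hnodecol := by decide +kernel
  hcol := by decide +kernel
  hivjc := by decide +kernel
  hpairs1 := by decide +kernel
  hpairs2 := by decide +kernel
  hinvL1 := by decide +kernel
  hinvL2 := by decide +kernel
  hextra1 := Cfsg.Agent.Helper28.forall2_right wE_all
  hextra2 := Cfsg.Agent.Helper28.forall2_left wE_all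
  hsub1 := wSub_l
  hsub2 := wSub_r
  hletE := by decide +kernel
  hletS := by decide +kernel
  hN := Cfsg.Agent.Helper28.Gn.pad_ok D (by decide +kernel)
  hchk := (Cfsg.Agent.Helper28.Gn.rows_ok D rows_all).1
  hchkJ := (Cfsg.Agent.Helper28.Gn.rows_ok D rows_all).2
  hfin := Cfsg.Agent.Helper28.Gn.finSem_of D 306936 lv T ftp ftc fin_all (by decide +kernel)
  hn := by decide
  hTrel := hTrel_all
  hTsub := by decide +kernel

end Cfsg.Agent.Helper28.C1690
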