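import Cfsg.Agent.Helper28.GnR
import Cfsg.Agent.Helper28.C1690.Data
import Cfsg.Agent.Helper28.C1690.DataW0
import Cfsg.Agent.Helper28.C1690.DataW1

/-! Relator checks for S1690: words by columns, power words (generated). -/

set_option autoImplicit false

namespace Cfsg.Agent.Helper28.C1690

/-- the pair relators and the inverse relators -/
def relL1 : List (List ℕ) := pairs.map (fun p => Cfsg.Agent.Helper28.pairWord p.1 p.2.1 p.2.2) ++ invL

/-- the same words, by columns -/
noncomputable def relC1 : List (List (List ℕ)) := [[colT0, colT0],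
  [colT1, colT1],
  [colT2, colT2],
  [colT3, colT3],
  [colT4, colT4],
  [colT5, colT5],
  [colT6, colT6],
  [colT7, colT7],
  [colT8, colT8],
  [colT9, colT9],
  [colT10, colT10],
  [colT11, colT11],
  [colT0, colT1, colT0, colT1, colT0, colT1],
  [colT0, colT2, colT0, colT2],
  [colT0, colT3, colT0, colT3],
  [colT0, colT4, colT0, colT4],
  [colT0, colT5, colT0, colT5],
  [colT0, colT6, colT0, colT6],
  [colT0, colT7, colT0, colT7],
  [colT0, colT8, colT0, colT8],
  [colT0, colT9, colT0, colT9],
  [colT0, colT10, colT0, colT10],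
  [colT0, colT11, colT0, colT11],
  [colT1, colT2, colT1, colT2, colT1, colT2],
  [colT1, colT3, colT1, colT3],
  [colT1, colT4, colT1, colT4],
  [colT1, colT5, colT1, colT5],
  [colT1, colT6, colT1, colT6],
  [colT1, colT7, colT1, colT7],
  [colT1, colT8, colT1, colT8],
  [colT1, colT9, colT1, colT9],
  [colT1, colT10, colT1, colT10],
  [colT1, colT11, colT1, colT11],
  [colT2, colT3, colT2, colT3, colT2, colT3],
  [colT2, colT4, colT2, colT4],
  [colT2, colT5, colT2, colT5],
  [colT2, colT6, colT2, colT6],
  [colT2, colT7, colT2, colT7],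
  [colT2, colT8, colT2, colT8],
  [colT2, colT9, colT2, colT9],
  [colT2, colT10, colT2, colT10],
  [colT2, colT11, colT2, colT11],
  [colT3, colT4, colT3, colT4, colT3, colT4],
  [colT3, colT5, colT3, colT5],
  [colT3, colT6, colT3, colT6],
  [colT3, colT7, colT3, colT7],
  [colT3, colT8, colT3, colT8],
  [colT3, colT9, colT3, colT9],
  [colT3, colT10, colT3, colT10],
  [colT3, colT11, colT3, colT11],
  [colT4, colT5, colT4, colT5, colT4, colT5],
  [colT4, colT6, colT4, colT6],
  [colT4, colT7, colT4, colT7],
  [colT4, colT8, colT4, colT8],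
  [colT4, colT9, colT4, colT9],
  [colT4, colT10, colT4, colT10],
  [colT4, colT11, colT4, colT11],
  [colT5, colT6, colT5, colT6, colT5, colT6],
  [colT5, colT7, colT5, colT7],
  [colT5, colT8, colT5, colT8],
  [colT5, colT9, colT5, colT9],
  [colT5, colT10, colT5, colT10, colT5, colT10],
  [colT5, colT11, colT5, colT11],
  [colT6, colT7, colT6, colT7, colT6, colT7],
  [colT6, colT8, colT6, colT8],
  [colT6, colT9, colT6, colT9],
  [colT6, colT10, colT6, colT10],
  [colT6, colT11, colT6, colT11],
  [colT7, colT8, colT7, colT8, colT7, colT8],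
  [colT7, colT9, colT7, colT9],
  [colT7, colT10, colT7, colT10],
  [colT7, colT11, colT7, colT11],
  [colT8, colT9, colT8, colT9, colT8, colT9],
  [colT8, colT10, colT8, colT10],
  [colT8, colT11, colT8, colT11],
  [colT9, colT10, colT9, colT10],
  [colT9, colT11, colT9, colT11],
  [colT10, colT11, colT10, colT11, colT10, colT11]]

theorem relC1_eq : relC1 = relL1.map (List.map colOf) := by rfl

def pre0 : List ℕ := [0]

def rep0 : List ℕ := [10, 7, 6, 5, 4, 3, 2]

noncomputable def preC0 : List (List ℕ) := [colT0]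

noncomputable def repC0 : List (List ℕ) := [colT10, colT7, colT6, colT5, colT4, colT3, colT2]

theorem preC0_eq : preC0 = pre0.map colOf := by rfl

theorem repC0_eq : repC0 = rep0.map colOf := by rfl

/-- the table of the word `rep0` -/
noncomputable def lookW0 : ℕ → ℕ := fun i => Nat.land (Nat.shiftRight (List.rec (motive := fun _ => ℕ → ℕ) (fun _ => 0) (fun a _ ih j => Nat.rec (motive := fun _ => ℕ) a (fun j' _ => ih j') j) wcol0 (Nat.shiftRight i 12)) (Nat.mul (Nat.land i 4095) 19)) 524287

def pre1 : List ℕ := []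

def rep1 : List ℕ := [5, 4, 3, 2, 1, 0, 5, 6, 7, 8, 9, 5, 10, 11]

noncomputable def preC1 : List (List ℕ) := []

noncomputable def repC1 : List (List ℕ) := [colT5, colT4, colT3, colT2, colT1, colT0, colT5, colT6, colT7, colT8, colT9, colT5, colT10, colT11]

theorem preC1_eq : preC1 = pre1.map colOf := by rfl

theorem repC1_eq : repC1 = rep1.map colOf := by rfl

/-- the table of the word `rep1` -/
noncomputable def lookW1 : ℕ → ℕ := fun i => Nat.land (Nat.shiftRight (List.rec (motive := fun _ => ℕ → ℕ) (fun _ => 0) (fun a _ ih j => Nat.rec (motive := fun _ => ℕ) a (fun j' _ => ih j') j) wcol1 (Nat.shiftRight i 12)) (Nat.mul (Nat.land i 4095) 19)) 524287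

theorem extraL_eq : extraL = [pre0 ++ Cfsg.Agent.Helper28.Gn.lpow rep0 9, pre1 ++ Cfsg.Agent.Helper28.Gn.lpow rep1 17] := by decide +kernel

end Cfsg.Agent.Helper28.C1690
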